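import Groth.Agent.QuotFunLib.PullE

/-!
# Pullbacks of quotients: kernels and compatibility of the identifications
-/

set_option autoImplicit false
set_option backward.isDefEq.respectTransparency false
set_option backward.isDefEq.respectTransparency.types false
set_option linter.style.haveILetI false
universe u

open CategoryTheory CategoryTheory.Limits AlgebraicGeometry

noncomputable section

namespace Groth.Agent.QuotSm29

open Groth.Agent Groth.Agent.KFlatLib Groth.Agent.QuotFunLib

variable {X S : Scheme.{u}} {x : X ⟶ S} {E : X.Modules}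

/-- The identifications of pulled back sheaves are compatible with composition. -/
theorem ETiso_comp {T T' T'' : Over S} (g : T' ⟶ T) (g' : T'' ⟶ T') (h : T'' ⟶ T) (e : g' ≫ g = h)
    (e' : PicF.XTmap x g' ≫ PicF.XTmap x g = PicF.XTmap x h) :
    (Scheme.Modules.pullback (PicF.XTmap x g')).map (FGA.ETiso x E g).hom ≫ (FGA.ETiso x E g').hom =
      ((Scheme.Modules.pullbackComp (PicF.XTmap x g') (PicF.XTmap x g) ≪≫
        Scheme.Modules.pullbackCongr e').app (FGA.ET x E T)).hom ≫ (FGA.ETiso x E h).hom := by
  subst e
  let F := (Scheme.Modules.pullback (PicF.XTmap x g)).obj (FGA.ET x E T)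
  refine smap_hom_ext fun y w => ?_
  have hw : w ∈ Submodule.span ((PicF.XT x T'').presheaf.stalk y)
      (Set.range (pmAt (PicF.XTmap x g') F y rfl)) := by
    rw [span_range_pmAt]; trivial
  induction hw using Submodule.span_induction with
  | mem v hv =>
    obtain ⟨v, rfl⟩ := hv
    have hv : v ∈ Submodule.span ((PicF.XT x T').presheaf.stalk (PicF.XTmap x g' y))
        (Set.range (pmAt (PicF.XTmap x g) (FGA.ET x E T) (PicF.XTmap x g' y) rfl)) := by
      rw [span_range_pmAt]; trivial
    induction hv using Submodule.span_induction with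
    | mem v hv =>
      obtain ⟨m, rfl⟩ := hv
      rw [smap_comp, smap_comp]
      have h1 := pmAt_nat (PicF.XTmap x g') (FGA.ETiso x E g).hom y (z := PicF.XTmap x g' y) rfl
        (pmAt (PicF.XTmap x g) (FGA.ET x E T) (PicF.XTmap x g' y) rfl m)
      refine (congrArg _ h1.symm).trans ?_
      refine (pE_comp g g' rfl rfl m).trans ?_
      have hz : (PicF.XTmap x g' ≫ PicF.XTmap x g) y = PicF.XTmap x g (PicF.XTmap x g' y) := rfl
      show smap (FGA.ETiso x E (g' ≫ g)).hom y _ = smap (FGA.ETiso x E (g' ≫ g)).hom y _
      refine congrArg (smap (FGA.ETiso x E (g' ≫ g)).hom y) ?_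
      refine Eq.symm ?_
      refine (smap_comp _ _ y _).trans ?_
      refine (congrArg _ (pmAt_comp (PicF.XTmap x g') (PicF.XTmap x g) (FGA.ET x E T) y rfl rfl hz m)).trans ?_
      exact pmAt_congr e' (FGA.ET x E T) y hz _ m
    | zero => rw [pmAt_zero, map_zero, map_zero]
    | add a b _ _ ha hb => rw [pmAt_add, map_add, map_add, ha, hb]
    | smul r a _ ha => rw [pmAt_smul, map_smul, map_smul, ha]
  | zero => rw [map_zero, map_zero]
  | add a b _ _ ha hb => rw [map_add, map_add, ha, hb]
  | smul r a _ ha => rw [map_smul, map_smul, ha]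

/-- Pulling back the kernel of a quotient map gives the kernel of the pulled back quotient map. -/
theorem quotPull_kernelSubobject {T T' : Over S} (g : T' ⟶ T) {G : (PicF.XT x T).Modules}
    (π : FGA.ET x E T ⟶ G) [Epi π] :
    FGA.quotPull x E g (kernelSubobject π) =
      kernelSubobject ((FGA.ETiso x E g).inv ≫ (Scheme.Modules.pullback (PicF.XTmap x g)).map π) := by
  haveI := (Scheme.Modules.pullbackPushforwardAdjunction (PicF.XTmap x g)).leftAdjoint_preservesColimits
  let P := Scheme.Modules.pullback (PicF.XTmap x g)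
  let K := kernelSubobject π
  have hw : K.arrow ≫ π = 0 := kernelSubobject_arrow_comp π
  have hex : (ShortComplex.mk K.arrow π hw).Exact := by
    refine (ShortComplex.exact_iff_image_eq_kernel _).2 ?_
    exact (imageSubobject_mono K.arrow).trans (Subobject.mk_arrow K)
  obtain ⟨hc⟩ := (ShortComplex.mk K.arrow π hw).exact_and_epi_g_iff_g_is_cokernel.1 ⟨hex, inferInstanceAs (Epi π)⟩
  have hc' := isColimitCoforkMapOfIsColimit' P hw hc
  obtain ⟨hex', -⟩ := (ShortComplex.mk (P.map K.arrow) (P.map π) (by rw [← P.map_comp, hw, P.map_zero])).exact_and_epi_g_iff_g_is_cokernel.2 ⟨hc'⟩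
  let S' := ShortComplex.mk (P.map K.arrow ≫ (FGA.ETiso x E g).hom) ((FGA.ETiso x E g).inv ≫ P.map π)
    (by rw [Category.assoc, Iso.hom_inv_id_assoc, ← P.map_comp, hw, P.map_zero])
  have hS' : S'.Exact := by
    refine (ShortComplex.exact_iff_of_iso (S₁ := ShortComplex.mk (P.map K.arrow) (P.map π)
      (by rw [← P.map_comp, hw, P.map_zero])) (S₂ := S')
      (ShortComplex.isoMk (Iso.refl _) (FGA.ETiso x E g) (Iso.refl _) ?_ ?_)).1 hex'
    · exact Category.id_comp _
    · exact (Iso.hom_inv_id_assoc _ _).trans (Category.comp_id _).symm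
  exact S'.exact_iff_image_eq_kernel.1 hS'

/-- The kernel subobject only sees the map up to an isomorphism of targets. -/
theorem kernelSubobject_comp_iso {F : X.Modules} {G G' : X.Modules} (π : F ⟶ G) (e : G ≅ G') :
    kernelSubobject (π ≫ e.hom) = kernelSubobject π :=
  kernelSubobject_comp_mono π e.hom

/-- A subobject is the kernel of its quotient. -/
theorem kernelSubobject_cokernel_π {F : X.Modules} (K : Subobject F) : kernelSubobject (cokernel.π K.arrow) = K := by
  have hex : (ShortComplex.mk K.arrow (cokernel.π K.arrow) (cokernel.condition _)).Exact :=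
    ShortComplex.exact_of_g_is_cokernel _ (cokernelIsCokernel K.arrow)
  rw [← (ShortComplex.exact_iff_image_eq_kernel _).1 hex, imageSubobject_mono, Subobject.mk_arrow]

end Groth.Agent.QuotSm29
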