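import Mathlib

/-!
# An algebra is the colimit of its finitely generated subalgebras
-/

universe u

open CategoryTheory CategoryTheory.Limits AlgebraicGeometry

set_option autoImplicit false
set_option linter.style.haveILetI false
set_option backward.isDefEq.respectTransparency.types false

noncomputable section

namespace Groth.Agent.QuotSm29.Stages

variable (Λ : Type u) [CommRing Λ] (A : Type u) [CommRing A] [Algebra Λ A]

/-- The finitely generated subalgebras. -/
def algs : Finset A ⥤ CommRingCat.{u} where
  obj s := CommRingCat.of (Algebra.adjoin Λ (s : Set A))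
  map {s t} h := CommRingCat.ofHom
    (Subalgebra.inclusion (Algebra.adjoin_mono (Finset.coe_subset.2 (leOfHom h)))).toRingHom

/-- The cocone of the inclusions. -/
def cocone : Cocone (algs Λ A) where
  pt := CommRingCat.of A
  «ι» := { app := fun s => CommRingCat.ofHom (Algebra.adjoin Λ (s : Set A)).val.toRingHom }

/-- An algebra is the colimit of its finitely generated subalgebras. -/
def isColimit : IsColimit (cocone Λ A) := by
  classical
  haveI : ReflectsColimit (algs Λ A) (forget CommRingCat.{u}) := reflectsColimit_of_reflectsIsomorphisms _ _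
  refine isColimitOfReflects (forget CommRingCat.{u}) ?_
  refine Types.FilteredColimit.isColimitOf' _ _ (fun z => ?_) fun s x y h => ?_
  · exact ⟨{z}, ⟨z, Algebra.subset_adjoin (Finset.mem_singleton_self z)⟩, rfl⟩
  · refine ⟨s, 𝟙 s, ?_⟩
    exact congrArg _ (Subtype.ext h)

/-- The system of spectra. -/
def diagram : (Finset A)ᵒᵖ ⥤ Scheme.{u} := (algs Λ A).op ⋙ Scheme.Spec

/-- The limiting cone. -/
def cone : Cone (diagram Λ A) := Scheme.Spec.mapCone (cocone Λ A).op

/-- The spectrum is the limit. -/
def isLimit : IsLimit (cone Λ A) := isLimitOfPreserves Scheme.Spec (isColimit Λ A).op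

instance isAffine_obj (i : (Finset A)ᵒᵖ) : IsAffine ((diagram Λ A).obj i) :=
  isAffine_Spec (CommRingCat.of (Algebra.adjoin Λ ((i.unop : Finset A) : Set A)))

instance isAffineHom_map {i j : (Finset A)ᵒᵖ} (f : i ⟶ j) : IsAffineHom ((diagram Λ A).map f) :=
  isAffineHom_of_isAffine _

/-- The structure morphism of a stage. -/
def str (i : (Finset A)ᵒᵖ) : (diagram Λ A).obj i ⟶ Spec (CommRingCat.of Λ) :=
  Spec.map (CommRingCat.ofHom (algebraMap Λ (Algebra.adjoin Λ ((i.unop : Finset A) : Set A))))

theorem map_str {i j : (Finset A)ᵒᵖ} (f : i ⟶ j) : (diagram Λ A).map f ≫ str Λ A j = str Λ A i := by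
  show Spec.map _ ≫ Spec.map _ = Spec.map _
  rw [← Spec.map_comp]
  rfl

theorem π_str (i : (Finset A)ᵒᵖ) :
    (cone Λ A).π.app i ≫ str Λ A i = Spec.map (CommRingCat.ofHom (algebraMap Λ A)) := by
  show Spec.map _ ≫ Spec.map _ = Spec.map _
  rw [← Spec.map_comp]
  rfl

instance lft_str (i : (Finset A)ᵒᵖ) : LocallyOfFiniteType (str Λ A i) := by
  exact (HasRingHomProperty.Spec_iff (P := @LocallyOfFiniteType)
    (φ := CommRingCat.ofHom (algebraMap Λ (Algebra.adjoin Λ ((i.unop : Finset A) : Set A))))).2
    (RingHom.finiteType_algebraMap.2 (Algebra.FiniteType.adjoin_of_finite (Finset.finite_toSet _)))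

instance isNoetherian_obj [IsNoetherianRing Λ] (i : (Finset A)ᵒᵖ) : IsNoetherian ((diagram Λ A).obj i) := by
  haveI : Algebra.FiniteType Λ (Algebra.adjoin Λ ((i.unop : Finset A) : Set A)) :=
    Algebra.FiniteType.adjoin_of_finite (Finset.finite_toSet _)
  haveI : IsNoetherianRing (Algebra.adjoin Λ ((i.unop : Finset A) : Set A)) :=
    Algebra.FiniteType.isNoetherianRing Λ _
  exact inferInstanceAs (IsNoetherian (Spec (CommRingCat.of (Algebra.adjoin Λ ((i.unop : Finset A) : Set A)))))

end Groth.Agent.QuotSm29.Stages
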