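import Groth.Agent.QuotSm29.ETComp
import Groth.Agent.QuotSm29.Stages
import Groth.Agent.FPEnough.Descend
import Groth.Agent.CohPullX.FlatStage

/-!
# A scheme representing a Quot functor is locally of finite type
-/

set_option autoImplicit false
set_option linter.style.haveILetI false
set_option linter.unusedSectionVars false
set_option backward.isDefEq.respectTransparency false
set_option backward.isDefEq.respectTransparency.types false
set_option maxHeartbeats 400000

universe u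

open CategoryTheory CategoryTheory.Limits AlgebraicGeometry TopologicalSpace Opposite

noncomputable section

namespace Groth.Agent.QuotSm29

open Groth.Agent Groth.Agent.QuotFunLib

variable {S X : Scheme.{u}} (x : X ⟶ S) {Λ R : Type u} [CommRing Λ] [CommRing R] [Algebra Λ R]
  (aU : Spec (CommRingCat.of Λ) ⟶ S)

/-- The stages as schemes over the base. -/
def TS (i : (Finset R)ᵒᵖ) : Over S := Over.mk (Stages.str Λ R i ≫ aU)

/-- The transition maps. -/
def trS {i j : (Finset R)ᵒᵖ} (f : i ⟶ j) : TS (R := R) aU i ⟶ TS (R := R) aU j :=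
  Over.homMk ((Stages.diagram Λ R).map f) (by
    show (Stages.diagram Λ R).map f ≫ Stages.str Λ R j ≫ aU = Stages.str Λ R i ≫ aU
    rw [← Category.assoc, Stages.map_str])

/-- The limit over the base. -/
def TI : Over S := Over.mk (Spec.map (CommRingCat.ofHom (algebraMap Λ R)) ≫ aU)

/-- The projections. -/
def prS (i : (Finset R)ᵒᵖ) : TI (R := R) aU ⟶ TS (R := R) aU i :=
  Over.homMk ((Stages.cone Λ R).π.app i) (by
    show (Stages.cone Λ R).π.app i ≫ Stages.str Λ R i ≫ aU = _
    rw [← Category.assoc, Stages.π_str]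
    rfl)

theorem prS_trS {i j : (Finset R)ᵒᵖ} (f : i ⟶ j) : prS (R := R) aU i ≫ trS aU f = prS aU j :=
  Over.OverMorphism.ext ((Stages.cone Λ R).w f)

/-- The fibre products with the stages. -/
def XD : (Finset R)ᵒᵖ ⥤ Scheme.{u} where
  obj i := PicF.XT x (TS (R := R) aU i)
  map f := PicF.XTmap x (trS aU f)
  map_id i := by
    rw [show trS aU (𝟙 i) = 𝟙 (TS (R := R) aU i) from Over.OverMorphism.ext ((Stages.diagram Λ R).map_id i)]
    exact QuotFunLib.XTmap_id _
  map_comp f g := by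
    rw [show trS aU (f ≫ g) = trS aU f ≫ trS aU g from Over.OverMorphism.ext ((Stages.diagram Λ R).map_comp f g)]
    exact ArtFunLib.HilbLink.XTmap_comp x _ _

/-- The projections to the stages. -/
def XDbase : XD (R := R) x aU ⟶ Stages.diagram Λ R where
  app i := PicF.XTproj x (TS (R := R) aU i)
  naturality i j f := ArtFunLib.HilbLink.XTmap_snd x (trS aU f)

/-- The cone. -/
def XC : Cone (XD (R := R) x aU) where
  pt := PicF.XT x (TI (R := R) aU)
  π :=
    { app := fun i => PicF.XTmap x (prS aU i)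
      naturality := fun i j f => by
        refine (Category.id_comp _).trans ?_
        show PicF.XTmap x (prS aU j) = PicF.XTmap x (prS aU i) ≫ PicF.XTmap x (trS aU f)
        rw [← prS_trS aU f]
        exact ArtFunLib.HilbLink.XTmap_comp x _ _ }

attribute [local instance] CategoryTheory.IsFiltered.isConnected CategoryTheory.IsCofiltered.isConnected

/-- The fibre product is the limit. -/
def isLimitXC : IsLimit (XC (R := R) x aU) :=
  isLimitOfIsPullbackOfIsConnected (XDbase x aU) _ (Stages.cone Λ R)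
    { hom := PicF.XTproj x (TI (R := R) aU), w := fun i => (ArtFunLib.HilbLink.XTmap_snd x (prS aU i)).symm }
    (fun i => ArtFunLib.HilbLink.isPullback_XTmap x (prS aU i)) (Stages.isLimit Λ R)

variable {E : X.Modules}

theorem key_eq {T T' T'' : Over S} {g : T' ⟶ T} {g' : T'' ⟶ T'} {h : T'' ⟶ T}
    (A : (Scheme.Modules.pullback (PicF.XTmap x g)).obj (FGA.ET x E T) ≅ FGA.ET x E T')
    (B : (Scheme.Modules.pullback (PicF.XTmap x g')).obj (FGA.ET x E T') ≅ FGA.ET x E T'')
    (C : (Scheme.Modules.pullback (PicF.XTmap x h)).obj (FGA.ET x E T) ≅ FGA.ET x E T'')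
    (e' : PicF.XTmap x g' ≫ PicF.XTmap x g = PicF.XTmap x h)
    (hco : (Scheme.Modules.pullback (PicF.XTmap x g')).map A.hom ≫ B.hom =
      ((Scheme.Modules.pullbackComp (PicF.XTmap x g') (PicF.XTmap x g) ≪≫
        Scheme.Modules.pullbackCongr e').app (FGA.ET x E T)).hom ≫ C.hom)
    {G : (PicF.XT x T'').Modules} {Gj : (PicF.XT x T').Modules}
    (pj : (Scheme.Modules.pullback (PicF.XTmap x g)).obj (FGA.ET x E T) ⟶ Gj)
    (e : (Scheme.Modules.pullback (PicF.XTmap x g')).obj Gj ⟶ G) (π : FGA.ET x E T'' ⟶ G)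
    (hp : ((Scheme.Modules.pullbackComp (PicF.XTmap x g') (PicF.XTmap x g) ≪≫
        Scheme.Modules.pullbackCongr e').app (FGA.ET x E T)).inv ≫
      (Scheme.Modules.pullback (PicF.XTmap x g')).map pj ≫ e = C.hom ≫ π) :
    (B.inv ≫ (Scheme.Modules.pullback (PicF.XTmap x g')).map (A.inv ≫ pj)) ≫ e = π := by
  rw [← cancel_epi ((Scheme.Modules.pullback (PicF.XTmap x g')).map A.hom ≫ B.hom)]
  simp only [Category.assoc, Iso.hom_inv_id_assoc, Functor.map_comp]
  rw [← Functor.map_comp_assoc, Iso.hom_inv_id, CategoryTheory.Functor.map_id, Category.id_comp]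
  rw [(Iso.inv_comp_eq _).1 hp, ← Category.assoc, ← hco, Category.assoc]

/-- Flatness over the base, read on the chosen fibre product. -/
theorem flat_of_chosen {X₀ Y T Z : Scheme.{u}} {f : X₀ ⟶ Y} {b : T ⟶ Y} {a : Z ⟶ X₀} {p : Z ⟶ T}
    (sq : IsPullback a p f b) (M : X₀.Modules)
    (h : FlatMod.IsFlatOver (pullback.snd f b) ((Scheme.Modules.pullback (pullback.fst f b)).obj M)) :
    FlatMod.IsFlatOver p ((Scheme.Modules.pullback a).obj M) := fun z => by
  have hsq : IsPullback sq.isoPullback.hom p (pullback.snd f b) (𝟙 T) :=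
    IsPullback.of_horiz_isIso ⟨sq.isoPullback_hom_snd.trans (Category.comp_id _).symm⟩
  refine GrFlat5.isFlatOverAt_of_iso _ ((Scheme.Modules.pullbackComp sq.isoPullback.hom _).app M ≪≫
    (Scheme.Modules.pullbackCongr sq.isoPullback_hom_fst).app M) z ?_
  exact MorLib.FlatBC.isFlatOverAt_baseChange _ _ sq.isoPullback.hom (𝟙 _) hsq _ z (h _)

/-- Flatness over the base moves to the chosen fibre product. -/
theorem flat_to_chosen {X₀ Y T Z : Scheme.{u}} {f : X₀ ⟶ Y} {b : T ⟶ Y} {a : Z ⟶ X₀} {p : Z ⟶ T}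
    (sq : IsPullback a p f b) (M : X₀.Modules) {G : Z.Modules} (e : (Scheme.Modules.pullback a).obj M ≅ G)
    (h : FlatMod.IsFlatOver p G) :
    FlatMod.IsFlatOver (pullback.snd f b) ((Scheme.Modules.pullback (pullback.fst f b)).obj M) := fun z => by
  let e0 := sq.isoPullback
  have hsq : IsPullback e0.inv (pullback.snd f b) p (𝟙 T) :=
    IsPullback.of_horiz_isIso ⟨(e0.inv_comp_eq.2 sq.isoPullback_hom_snd.symm).trans (Category.comp_id _).symm⟩
  refine GrFlat5.isFlatOverAt_of_iso _ ((Scheme.Modules.pullback e0.inv).mapIso e.symm ≪≫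
    (Scheme.Modules.pullbackComp e0.inv a).app M ≪≫
    (Scheme.Modules.pullbackCongr (e0.inv_comp_eq.2 sq.isoPullback_hom_fst.symm)).app M) z ?_
  exact MorLib.FlatBC.isFlatOverAt_baseChange _ _ e0.inv (𝟙 _) hsq G z (h _)

/-- The stage quotient pulls back to the given one. -/
theorem quotPull_stage_eq {T T' T'' : Over S} {g : T' ⟶ T} {g' : T'' ⟶ T'} {h : T'' ⟶ T} (hg : g' ≫ g = h)
    (e' : PicF.XTmap x g' ≫ PicF.XTmap x g = PicF.XTmap x h) {Gj : (PicF.XT x T').Modules}
    (pj : (Scheme.Modules.pullback (PicF.XTmap x g)).obj (FGA.ET x E T) ⟶ Gj) [Epi pj]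
    (K : Subobject (FGA.ET x E T'')) : ∀ (e : (Scheme.Modules.pullback (PicF.XTmap x g')).obj Gj ≅ cokernel K.arrow)
    (_ : ((Scheme.Modules.pullbackComp (PicF.XTmap x g') (PicF.XTmap x g) ≪≫
        Scheme.Modules.pullbackCongr e').app (FGA.ET x E T)).inv ≫
      (Scheme.Modules.pullback (PicF.XTmap x g')).map pj ≫ e.hom = (FGA.ETiso x E h).hom ≫ cokernel.π K.arrow),
    FGA.quotPull x E g' (kernelSubobject ((FGA.ETiso x E g).inv ≫ pj)) = K := by
  intro e hp
  haveI : Epi ((FGA.ETiso x E g).inv ≫ pj) := epi_comp _ _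
  have hco := ETiso_comp (E := E) g g' h hg e'
  have key : ((FGA.ETiso x E g').inv ≫ (Scheme.Modules.pullback (PicF.XTmap x g')).map
      ((FGA.ETiso x E g).inv ≫ pj)) ≫ e.hom = cokernel.π K.arrow :=
    key_eq x _ _ _ e' hco pj e.hom _ hp
  rw [quotPull_kernelSubobject]
  refine (kernelSubobject_comp_iso _ e).symm.trans ?_
  refine Eq.trans ?_ (kernelSubobject_cokernel_π K)
  congr 1

section Stage

variable [IsNoetherianRing Λ] [IsNoetherianRing R] [LocallyOfFiniteType x] [QuasiCompact x] [QuasiSeparated x]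

theorem isLocallyNoetherian_XT_TS (i : (Finset R)ᵒᵖ) : IsLocallyNoetherian (PicF.XT x (TS (R := R) aU i)) := by
  haveI : IsLocallyNoetherian (TS (R := R) aU i).left :=
    inferInstanceAs (IsLocallyNoetherian ((Stages.diagram Λ R).obj i))
  haveI : LocallyOfFiniteType (PicF.XTproj x (TS (R := R) aU i)) :=
    inferInstanceAs (LocallyOfFiniteType (pullback.snd x (TS (R := R) aU i).hom))
  exact LocallyOfFiniteType.isLocallyNoetherian (PicF.XTproj x (TS (R := R) aU i))

theorem compactSpace_XT_TS (i : (Finset R)ᵒᵖ) : CompactSpace (PicF.XT x (TS (R := R) aU i)) := by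
  haveI : IsAffine (TS (R := R) aU i).left :=
    inferInstanceAs (IsAffine ((Stages.diagram Λ R).obj i))
  haveI : QuasiCompact (PicF.XTproj x (TS (R := R) aU i)) :=
    inferInstanceAs (QuasiCompact (pullback.snd x (TS (R := R) aU i).hom))
  exact QuasiCompact.compactSpace_of_compactSpace (PicF.XTproj x (TS (R := R) aU i))

theorem quasiSeparatedSpace_XT_TS (i : (Finset R)ᵒᵖ) : QuasiSeparatedSpace (PicF.XT x (TS (R := R) aU i)) := by
  haveI : IsAffine (TS (R := R) aU i).left :=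
    inferInstanceAs (IsAffine ((Stages.diagram Λ R).obj i))
  haveI : QuasiSeparated (PicF.XTproj x (TS (R := R) aU i)) :=
    inferInstanceAs (QuasiSeparated (pullback.snd x (TS (R := R) aU i).hom))
  exact quasiSeparatedSpace_of_quasiSeparated (PicF.XTproj x (TS (R := R) aU i))

theorem isLocallyNoetherian_XT_TI : IsLocallyNoetherian (PicF.XT x (TI (R := R) aU)) := by
  haveI : IsLocallyNoetherian (TI (R := R) aU).left :=
    inferInstanceAs (IsLocallyNoetherian (Spec (CommRingCat.of R)))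
  haveI : LocallyOfFiniteType (PicF.XTproj x (TI (R := R) aU)) :=
    inferInstanceAs (LocallyOfFiniteType (pullback.snd x (TI (R := R) aU).hom))
  exact LocallyOfFiniteType.isLocallyNoetherian (PicF.XTproj x (TI (R := R) aU))

theorem compIso_inv_eq {i j : (Finset R)ᵒᵖ} (φ : j ⟶ i) (F : ((XD (R := R) x aU).obj i).Modules) (w : _) :
    ((Scheme.Modules.pullbackComp ((XC (R := R) x aU).π.app j) ((XD (R := R) x aU).map φ) ≪≫
      Scheme.Modules.pullbackCongr ((XC (R := R) x aU).w φ)).app F).inv =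
    ((Scheme.Modules.pullbackComp (PicF.XTmap x (prS (R := R) aU j)) (PicF.XTmap x (trS aU φ)) ≪≫
      Scheme.Modules.pullbackCongr (g := PicF.XTmap x (prS (R := R) aU i)) w).app F).inv := rfl

theorem map_comp_eq {i j : (Finset R)ᵒᵖ} (φ : j ⟶ i)
    {G : (XC (R := R) x aU).pt.Modules} (p : (Scheme.Modules.pullback ((XC (R := R) x aU).π.app i)).obj (FGA.ET x E (TS (R := R) aU i)) ⟶ G)
    {Gj : ((XD (R := R) x aU).obj j).Modules}
    (pj : (Scheme.Modules.pullback ((XD (R := R) x aU).map φ)).obj (FGA.ET x E (TS (R := R) aU i)) ⟶ Gj)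
    (e : (Scheme.Modules.pullback ((XC (R := R) x aU).π.app j)).obj Gj ≅ G)
    : (Scheme.Modules.pullback ((XC (R := R) x aU).π.app j)).map pj ≫ e.hom =
      (Scheme.Modules.pullback (PicF.XTmap x (prS (R := R) aU j))).map pj ≫ e.hom := rfl

/-- The quotient comes from a stage, flatness aside. -/
theorem exists_stage_cokernel (hE : Coh.IsCoh E) (K : FGA.QuotSet x E (TI (R := R) aU)) :
    ∃ (j : (Finset R)ᵒᵖ) (Gj : (PicF.XT x (TS (R := R) aU j)).Modules) (πj : FGA.ET x E (TS (R := R) aU j) ⟶ Gj)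
      (_ : Epi πj) (_ : (Scheme.Modules.pullback (PicF.XTmap x (prS aU j))).obj Gj ≅ cokernel K.1.arrow),
      CohB1.IsFP Gj ∧ FGA.quotPull x E (prS aU j) (kernelSubobject πj) = K.1 := by
  haveI hXaff : ∀ {i j} (f : i ⟶ j), IsAffineHom ((XD (R := R) x aU).map f) := fun {i j} f =>
    MorphismProperty.of_isPullback (P := @IsAffineHom)
      (ArtFunLib.HilbLink.isPullback_XTmap x (trS (R := R) aU f)).flip
      (inferInstanceAs (IsAffineHom ((Stages.diagram Λ R).map f)))
  let i₀ : (Finset R)ᵒᵖ := op ∅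
  haveI : CompactSpace ((XD (R := R) x aU).obj i₀) := compactSpace_XT_TS x aU i₀
  haveI : QuasiSeparatedSpace ((XD (R := R) x aU).obj i₀) := quasiSeparatedSpace_XT_TS x aU i₀
  haveI : IsLocallyNoetherian ((XD (R := R) x aU).obj i₀) := isLocallyNoetherian_XT_TS x aU i₀
  haveI : IsLocallyNoetherian (XC (R := R) x aU).pt := isLocallyNoetherian_XT_TI x aU
  haveI := isLocallyNoetherian_XT_TS x aU (R := R)
  haveI := isLocallyNoetherian_XT_TI x aU (R := R)
  have hE₀ : Coh.IsCoh (FGA.ET x E (TS (R := R) aU i₀)) := ZClosLib.isCoh_pullback _ hE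
  let G := cokernel K.1.arrow
  let p : (Scheme.Modules.pullback ((XC (R := R) x aU).π.app i₀)).obj (FGA.ET x E (TS (R := R) aU i₀)) ⟶ G :=
    (FGA.ETiso x E (prS aU i₀)).hom ≫ cokernel.π K.1.arrow
  haveI : Epi p := epi_comp _ _
  obtain ⟨j, φ, Gj, hGj, pj, e, hGjfp, hpj, hp⟩ := FPEnough.exists_quotient_descend (D := XD (R := R) x aU)
    (c := XC x aU) (isLimitXC x aU) (i := i₀) (F₀ := FGA.ET x E (TS (R := R) aU i₀)) hE₀.1
    (QCoh.isCoh_iff_isFP.1 hE₀) K.2.1.1 (QCoh.isCoh_iff_isFP.1 K.2.1) p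
  haveI := hpj
  let πj : FGA.ET x E (TS (R := R) aU j) ⟶ Gj := (FGA.ETiso x E (trS aU φ)).inv ≫ pj
  haveI : Epi πj := epi_comp _ _
  exact ⟨j, Gj, πj, inferInstance, e, hGjfp,
    quotPull_stage_eq x (prS_trS aU φ) ((XC (R := R) x aU).w φ) pj K.1 e
      ((congrArg₂ (fun u v => u ≫ v) (compIso_inv_eq x aU φ (FGA.ET x E (TS (R := R) aU i₀))
        ((XC (R := R) x aU).w φ)) (map_comp_eq x aU φ p pj e)).symm.trans hp)⟩

/-- A flat quotient over the limit comes from a stage. -/
theorem exists_stage_quot (hE : Coh.IsCoh E) (K : FGA.QuotSet x E (TI (R := R) aU)) :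
    ∃ (i : (Finset R)ᵒᵖ) (Ki : FGA.QuotSet x E (TS (R := R) aU i)),
      FGA.quotPull x E (prS aU i) Ki.1 = K.1 := by
  obtain ⟨j, Gj, πj, hπj, e, hGjfp, hKj⟩ := exists_stage_cokernel x aU hE K
  haveI := hπj
  haveI := isLocallyNoetherian_XT_TS x aU (R := R)
  haveI := compactSpace_XT_TS x aU (R := R) j
  haveI : IsAffine (TS (R := R) aU j).left :=
    inferInstanceAs (IsAffine ((Stages.diagram Λ R).obj j))
  haveI : IsLocallyNoetherian (TS (R := R) aU j).left :=
    inferInstanceAs (IsLocallyNoetherian ((Stages.diagram Λ R).obj j))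
  let fj : PicF.XT x (TS (R := R) aU j) ⟶ (Stages.diagram Λ R).obj j := PicF.XTproj x (TS (R := R) aU j)
  haveI : LocallyOfFiniteType fj := inferInstanceAs (LocallyOfFiniteType (pullback.snd x (TS (R := R) aU j).hom))
  haveI : LocallyOfFinitePresentation fj := inferInstance
  have hflat : FlatMod.IsFlatOver (pullback.snd fj ((Stages.cone Λ R).π.app j))
      ((Scheme.Modules.pullback (pullback.fst fj ((Stages.cone Λ R).π.app j))).obj Gj) :=
    flat_to_chosen (ArtFunLib.HilbLink.isPullback_XTmap x (prS (R := R) aU j)) Gj e K.2.2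
  obtain ⟨k, ψ, hk⟩ := CohPullX.exists_flat_stage_module (Stages.diagram Λ R) (Stages.isLimit Λ R) j fj hGjfp hflat
  let tr := trS (R := R) aU ψ
  haveI := (Scheme.Modules.pullbackPushforwardAdjunction (PicF.XTmap x tr)).leftAdjoint_preservesColimits
  let πk : FGA.ET x E (TS (R := R) aU k) ⟶ (Scheme.Modules.pullback (PicF.XTmap x tr)).obj Gj :=
    (FGA.ETiso x E tr).inv ≫ (Scheme.Modules.pullback (PicF.XTmap x tr)).map πj
  haveI : Epi πk := epi_comp _ _
  let Kk := kernelSubobject πk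
  have hGk : Coh.IsCoh ((Scheme.Modules.pullback (PicF.XTmap x tr)).obj Gj) :=
    ZClosLib.isCoh_pullback _ (QCoh.isCoh_iff_isFP.2 hGjfp)
  have hfk : FlatMod.IsFlatOver (PicF.XTproj x (TS (R := R) aU k))
      ((Scheme.Modules.pullback (PicF.XTmap x tr)).obj Gj) :=
    flat_of_chosen (ArtFunLib.HilbLink.isPullback_XTmap x tr) Gj hk
  have hKk : FGA.quotPull x E tr (kernelSubobject πj) = Kk := quotPull_kernelSubobject tr πj
  let eC : cokernel Kk.arrow ≅ (Scheme.Modules.pullback (PicF.XTmap x tr)).obj Gj := by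
    have hw : Kk.arrow ≫ πk = 0 := kernelSubobject_arrow_comp πk
    have hex : (ShortComplex.mk Kk.arrow πk hw).Exact :=
      (ShortComplex.exact_iff_image_eq_kernel _).2 ((imageSubobject_mono Kk.arrow).trans (Subobject.mk_arrow Kk))
    exact (cokernelIsCokernel Kk.arrow).coconePointUniqueUpToIso hex.gIsCokernel
  refine ⟨k, ⟨Kk, ⟨(QCoh.isQCoh_iff_iso eC.symm).1 hGk.1, KFlatLib.isFT_of_iso' eC.symm hGk.2⟩,
    fun z => KFlatLib.RelTor.flatOverAt_of_iso eC.symm (hfk z)⟩, ?_⟩
  show FGA.quotPull x E (prS aU k) Kk = K.1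
  rw [← hKk, ← quotPull_comp, prS_trS, hKj]

end Stage

/-- The chart of the representing scheme. -/
theorem lft_chart [IsLocallyNoetherian S] [LocallyOfFiniteType x] [QuasiCompact x] [QuasiSeparated x]
    (hE : Coh.IsCoh E) {Q : Over S} (Ku : FGA.QuotSet x E Q) (hQ : FGA.QuotRepresentedBy x E Q Ku)
    {U : S.Opens} (hU : IsAffineOpen U) {V : Q.left.Opens} (hV : IsAffineOpen V) (hVU : V ≤ Q.hom ⁻¹ᵁ U) :
    LocallyOfFiniteType (V.ι ≫ Q.hom) := by
  haveI := hQ.1
  letI : Algebra Γ(S, U) Γ(Q.left, V) := (Q.hom.appLE U V hVU).hom.toAlgebra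
  haveI : IsNoetherianRing Γ(S, U) := IsLocallyNoetherian.component_noetherian ⟨U, hU⟩
  haveI : IsNoetherianRing Γ(Q.left, V) := IsLocallyNoetherian.component_noetherian ⟨V, hV⟩
  let R : Type u := Γ(Q.left, V)
  let aU : Spec (CommRingCat.of Γ(S, U)) ⟶ S := hU.fromSpec
  let gQ : TI (R := R) aU ⟶ Q := Over.homMk hV.fromSpec
    (IsAffineOpen.SpecMap_appLE_fromSpec Q.hom hU hV hVU).symm
  obtain ⟨i, Ki, hKi⟩ := exists_stage_quot x aU hE ⟨_, isCoh_flat_quotPull gQ Ku⟩
  haveI : IsLocallyNoetherian (TS (R := R) aU i).left :=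
    inferInstanceAs (IsLocallyNoetherian ((Stages.diagram Γ(S, U) R).obj i))
  haveI : IsLocallyNoetherian (TI (R := R) aU).left :=
    inferInstanceAs (IsLocallyNoetherian (Spec (CommRingCat.of R)))
  obtain ⟨h, hh, -⟩ := hQ.2 (TS (R := R) aU i) Ki
  have hcomp : prS aU i ≫ h = gQ := by
    obtain ⟨g, -, hu⟩ := hQ.2 (TI (R := R) aU) ⟨_, isCoh_flat_quotPull gQ Ku⟩
    refine (hu _ ?_).trans (hu _ rfl).symm
    show FGA.quotPull x E (prS aU i ≫ h) Ku.1 = _
    rw [quotPull_comp, hh, hKi]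
  have hcl : (prS (R := R) aU i).left ≫ h.left = hV.fromSpec := congrArg CommaMorphism.left hcomp
  let T := (TS (R := R) aU i).left
  let W : T.Opens := h.left ⁻¹ᵁ V
  haveI : QuasiSeparatedSpace T := inferInstance
  have hle : ⊤ ≤ (prS (R := R) aU i).left ⁻¹ᵁ W := fun y _ => by
    show h.left ((prS (R := R) aU i).left y) ∈ V
    rw [← Scheme.Hom.comp_apply, hcl]
    exact hV.range_fromSpec.le ⟨y, rfl⟩
  let s : (V : Scheme.{u}) ⟶ (W : Scheme.{u}) :=
    hV.isoSpec.hom ≫ (Scheme.topIso _).inv ≫ (prS (R := R) aU i).left.resLE W ⊤ hle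
  let r : (W : Scheme.{u}) ⟶ (V : Scheme.{u}) := h.left.resLE V W le_rfl
  have hsr : s ≫ r = 𝟙 _ := by
    rw [← cancel_mono V.ι, Category.assoc, Category.id_comp, Scheme.Hom.resLE_comp_ι]
    simp only [s, Category.assoc, Scheme.Hom.resLE_comp_ι_assoc, hcl]
    rw [← Category.assoc (Scheme.topIso _).inv, show (Scheme.topIso (Spec Γ(Q.left, V))).inv ≫ (⊤ : (Spec Γ(Q.left, V)).Opens).ι = 𝟙 _ from (Scheme.topIso (Spec Γ(Q.left, V))).inv_hom_id, Category.id_comp]
    exact hV.isoSpec_hom_fromSpec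
  haveI : IsClosedImmersion (s ≫ r) := hsr ▸ inferInstance
  haveI : IsSeparated r := by
    haveI : (W : Scheme.{u}).IsSeparated := by
      haveI : IsAffine T := inferInstanceAs (IsAffine ((Stages.diagram Γ(S, U) R).obj i))
      haveI : IsSeparated (terminal.from T) := inferInstance
      exact ⟨by rw [← terminal.comp_from W.ι]; infer_instance⟩
    haveI : IsSeparated (r ≫ terminal.from _) := by rw [terminal.comp_from]; exact Scheme.IsSeparated.isSeparated_terminal_from
    exact IsSeparated.of_comp r (terminal.from _)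
  haveI : IsClosedImmersion s := IsClosedImmersion.of_comp s r
  haveI : LocallyOfFiniteType (Stages.str Γ(S, U) R i) := inferInstance
  have e : V.ι ≫ Q.hom = s ≫ W.ι ≫ Stages.str Γ(S, U) R i ≫ aU := by
    have h1 : W.ι ≫ Stages.str Γ(S, U) R i ≫ aU = r ≫ V.ι ≫ Q.hom := by
      rw [Scheme.Hom.resLE_comp_ι_assoc]
      exact congrArg (W.ι ≫ ·) (Over.w h).symm
    rw [h1, ← Category.assoc s, hsr, Category.id_comp]
  rw [e]
  infer_instance

/-- A scheme representing the Quot functor of a coherent module is locally of finite type. -/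
theorem lft_of_quotRepresented [IsLocallyNoetherian S] [LocallyOfFiniteType x] [QuasiCompact x] [QuasiSeparated x]
    (hE : Coh.IsCoh E) {Q : Over S} (Ku : FGA.QuotSet x E Q) (hQ : FGA.QuotRepresentedBy x E Q Ku) :
    LocallyOfFiniteType Q.hom := by
  haveI := hQ.1
  have hloc : ∀ q : Q.left, ∃ V : Q.left.Opens, q ∈ V ∧ LocallyOfFiniteType (V.ι ≫ Q.hom) := by
    intro q
    obtain ⟨_, ⟨U, hU, rfl⟩, hqU, -⟩ := S.isBasis_affineOpens.exists_subset_of_mem_open
      (Set.mem_univ (Q.hom q)) isOpen_univ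
    obtain ⟨_, ⟨V, hV, rfl⟩, hqV, hVU⟩ := Q.left.isBasis_affineOpens.exists_subset_of_mem_open
      (show q ∈ Q.hom ⁻¹ᵁ U from hqU) (Q.hom ⁻¹ᵁ U).2
    exact ⟨V, hqV, lft_chart x hE Ku hQ hU hV hVU⟩
  choose V hV hVl using hloc
  exact IsZariskiLocalAtSource.of_iSup_eq_top (P := @LocallyOfFiniteType) V
    (top_le_iff.1 fun q _ => Opens.mem_iSup.2 ⟨q, hV q⟩) hVl

end Groth.Agent.QuotSm29
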