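import Groth.Agent.QuotFunLib.Local

/-!
# Lifting flat quotients along a semismall extension, over any base
-/

set_option autoImplicit false
set_option linter.unusedSectionVars false
set_option backward.isDefEq.respectTransparency false
set_option backward.isDefEq.respectTransparency.types false
set_option linter.style.haveILetI false
universe u

open CategoryTheory CategoryTheory.Limits AlgebraicGeometry TopologicalSpace Opposite IsLocalRing ArtFun ArtFun.Art

noncomputable section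

namespace Groth.Agent.QuotSm29

open Groth.Agent Groth.Agent.KFlatLib Groth.Agent.H26.FibreQuot Groth.Agent.QuotFunLib

variable {k : Type u} [Field k] {X S : Scheme.{u}} {x : X ⟶ S} {E : X.Modules} {B A : Art k k}
  {τB : Art.spec B ⟶ S} {τA : Art.spec A ⟶ S} {τ₀ : Art.specPt k ⟶ S}

theorem flatA_mkSit (p : B ⟶ A) (hp : Function.Surjective p) (gA : Over.mk τA ⟶ Over.mk τB)
    (hgA : gA.left = Art.specMap p) (g₀ : Over.mk τ₀ ⟶ Over.mk τA) (hg₀ : g₀.left = Art.specRes A)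
    (hEfl : FlatMod.IsFlatOver x E) {n : ℕ} (t : Fin n → B) (K : FGA.QuotSet x E (Over.mk τA)) :
    (mkSit x p hp gA hgA g₀ hg₀ E hEfl t).FlatA K.1 :=
  fun y => (flat_localMap_iff (f := PicF.XTproj x (Over.mk τA)) _ y).1 (K.2.2 y)

theorem isCoh_cokernel_of_isLift [LocallyOfFiniteType x] (hE : Coh.IsCoh E) (p : B ⟶ A)
    (hp : Function.Surjective p) (gA : Over.mk τA ⟶ Over.mk τB) (hgA : gA.left = Art.specMap p)
    (g₀ : Over.mk τ₀ ⟶ Over.mk τA) (hg₀ : g₀.left = Art.specRes A) (hEfl : FlatMod.IsFlatOver x E)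
    {n : ℕ} (t : Fin n → B)
    (ht : Alg.KerBasis (mkSit x p hp gA hgA g₀ hg₀ E hEfl t).p (mkSit x p hp gA hgA g₀ hg₀ E hEfl t).t)
    {K : FGA.QuotSet x E (Over.mk τA)} {K' : Subobject (FGA.ET x E (Over.mk τB))}
    (h : (mkSit x p hp gA hgA g₀ hg₀ E hEfl t).IsLift K.1 K') : Coh.IsCoh (cokernel K'.arrow) := by
  let σ := mkSit x p hp gA hgA g₀ hg₀ E hEfl t
  let K₀ := FGA.quotPull x E g₀ K.1
  have hEB : Coh.IsCoh (FGA.ET x E (Over.mk τB)) := ZClosLib.isCoh_pullback _ hE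
  obtain ⟨ψ, hψ, hr⟩ := σ.exists_isExt ht h (flatA_mkSit p hp gA hgA g₀ hg₀ hEfl t K)
  haveI := σ.closedA
  haveI := σ.closed₀
  have hP : Coh.IsQCoh (Subobject.underlying.obj (σ.P K.1)) := by
    refine (QCoh.isQCoh_iff_iso (kernelSubobjectIso (σ.toQuot K.1)).symm).1 (QCoh.isQCoh_kernel hEB.1 ?_ _)
    exact QCoh.isQCoh_pushforward (PicF.XTmap x σ.g) K.2.1.1
  have hF₀ : Coh.IsQCoh (cokernel K₀.arrow) := (isCoh_flat_quotPull g₀ K).1.1
  let r := fun l => (Scheme.Modules.pullbackPushforwardAdjunction (PicF.XTmap x σ.gB)).homEquiv _ _ (ψ l)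
  have hr' : Coh.IsQCoh ((Scheme.Modules.pushforward (PicF.XTmap x σ.gB)).obj (cokernel K₀.arrow)) :=
    QCoh.isQCoh_pushforward (PicF.XTmap x σ.gB) hF₀
  suffices hK' : Coh.IsQCoh (K' : (PicF.XT x (Over.mk τB)).Modules) from QCoh.isCoh_cokernel hK' hEB _
  have key : ∀ m : ℕ, ∀ hm : m ≤ n, ∃ L : Subobject (FGA.ET x E (Over.mk τB)), Coh.IsQCoh (L : (PicF.XT x (Over.mk τB)).Modules) ∧
      ∀ z e, e ∈ stk L z ↔ ∃ q, smap (σ.P K.1).arrow z q = e ∧ ∀ l : Fin n, l.1 < m → smap (r l) z q = 0 := by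
    intro m
    induction m with
    | zero =>
      exact fun _ => ⟨σ.P K.1, hP, fun z e => ⟨fun ⟨q, hq⟩ => ⟨q, hq, fun l hl => absurd hl (Nat.not_lt_zero _)⟩,
        fun ⟨q, hq, _⟩ => ⟨q, hq⟩⟩⟩
    | succ m ih =>
      intro hm
      obtain ⟨L, hL, hL'⟩ := ih (Nat.le_of_succ_le hm)
      have hle : L ≤ σ.P K.1 := le_of_stk_le fun z e he => by
        obtain ⟨q, hq, -⟩ := (hL' z e).1 he
        exact ⟨q, hq⟩
      let a : (L : (PicF.XT x (Over.mk τB)).Modules) ⟶ _ := Subobject.ofLE L (σ.P K.1) hle ≫ r ⟨m, hm⟩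
      refine ⟨Subobject.mk (kernel.ι a ≫ L.arrow),
        (QCoh.isQCoh_iff_iso (Subobject.underlyingIso _).symm).1 (QCoh.isQCoh_kernel hL hr' a), fun z e => ?_⟩
      rw [stk_mk]
      constructor
      · rintro ⟨v, rfl⟩
        obtain ⟨q, hq, hq'⟩ := (hL' z _).1 ⟨smap (kernel.ι a) z v, (smap_comp _ _ z v).symm⟩
        have hqv : q = smap (Subobject.ofLE L (σ.P K.1) hle) z (smap (kernel.ι a) z v) :=
          smap_injective (σ.P K.1).arrow z (by rw [hq, smap_comp, ← smap_comp _ (σ.P K.1).arrow, Subobject.ofLE_arrow]; rfl)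
        refine ⟨q, hq, fun l hl => ?_⟩
        rcases Nat.lt_succ_iff_lt_or_eq.1 hl with hl | hl
        · exact hq' l hl
        · obtain rfl : l = ⟨m, hm⟩ := Fin.ext hl
          rw [hqv, ← smap_comp, ← smap_comp, kernel.condition, smap_zero]
      · rintro ⟨q, rfl, hq⟩
        obtain ⟨v, hv⟩ := (hL' z _).2 ⟨q, rfl, fun l hl => hq l (Nat.lt_succ_of_lt hl)⟩
        have hqv : q = smap (Subobject.ofLE L (σ.P K.1) hle) z v :=
          smap_injective (σ.P K.1).arrow z (by rw [← hv, ← smap_comp _ (σ.P K.1).arrow, Subobject.ofLE_arrow]; rfl)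
        have h1 : v ∈ LinearMap.ker (smap a z) := by
          rw [LinearMap.mem_ker, smap_comp, ← hqv]
          exact hq ⟨m, hm⟩ (Nat.lt_succ_self m)
        rw [← range_smap_kernel_ι] at h1
        obtain ⟨w, rfl⟩ := h1
        exact ⟨w, (smap_comp _ _ z w).trans hv⟩
  obtain ⟨L, hL, hL'⟩ := key n le_rfl
  obtain rfl : L = K' := ext_stk fun z => by
    ext e
    obtain ⟨y, hy⟩ := σ.surj₀ z
    rw [hL', hr y z hy]
    refine exists_congr fun q => and_congr_right fun _ => ?_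
    subst hy
    refine ⟨fun hh l => ?_, fun hh l _ => ?_⟩
    · exact (stalkPush_homEquiv _ (ψ l) y q).symm.trans ((congrArg _ (hh l l.2)).trans (map_zero _))
    · rw [← map_eq_zero_iff _ (ConcreteCategory.bijective_of_isIso
        (TopCat.Presheaf.stalkPushforward Ab.{u} (PicF.XTmap x σ.gB).base (cokernel K₀.arrow).presheaf y)).1]
      exact (stalkPush_homEquiv _ (ψ l) y q).trans (hh l)
  exact hL

/-- Vanishing of `Ext¹` on the closed fibre gives lifts along a semismall extension. -/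
theorem exists_lift_semismall [LocallyOfFiniteType x] (hE : Coh.IsCoh E) (hEfl : FlatMod.IsFlatOver x E)
    (p : B ⟶ A) (hp : IsSemismallExt p) (gA : Over.mk τA ⟶ Over.mk τB) (hgA : gA.left = Art.specMap p)
    (g₀ : Over.mk τ₀ ⟶ Over.mk τA) (hg₀ : g₀.left = Art.specRes A) (K : FGA.QuotSet x E (Over.mk τA))
    [HasExt.{u} (PicF.XT x (Over.mk τ₀)).Modules]
    (hExt : Subsingleton (Abelian.Ext.{u} (FGA.quotPull x E g₀ K.1 : (PicF.XT x (Over.mk τ₀)).Modules)
      (cokernel (FGA.quotPull x E g₀ K.1).arrow) 1)) :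
    ∃ K' : FGA.QuotSet x E (Over.mk τB), FGA.quotPull x E gA K'.1 = K.1 := by
  let t := fun j => ((kerBas p j : ↥(RingHom.ker p.toAlgHom)) : B)
  let σ := mkSit x p hp.1 gA hgA g₀ hg₀ E hEfl t
  have ht : Alg.KerBasis σ.p σ.t := exists_kerBasis p hp _
  have hflat := flatA_mkSit p hp.1 gA hgA g₀ hg₀ hEfl t K
  obtain ⟨K', hK'⟩ := σ.exists_lift_of_subsingleton ht hflat hExt
  exact ⟨⟨K', isCoh_cokernel_of_isLift hE p hp.1 gA hgA g₀ hg₀ hEfl t ht hK',
    fun z => (flat_localMap_iff (f := PicF.XTproj x (Over.mk τB)) _ z).2 (hK'.2 z)⟩, hK'.1⟩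

end Groth.Agent.QuotSm29
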