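import Groth.Agent.SmoothReg.Omega

/-!
# The cotangent space at a rational point of a smooth scheme
-/

set_option autoImplicit false
set_option linter.style.haveILetI false
set_option backward.isDefEq.respectTransparency false
set_option backward.isDefEq.respectTransparency.types false
universe u

open CategoryTheory AlgebraicGeometry TopologicalSpace

noncomputable section

namespace Groth.Agent.QuotSm29

theorem finrank_cotangentSpace_of_smooth {k : Type u} [Field k] {W : Scheme.{u}}
    (f : W ⟶ Spec (CommRingCat.of k)) (n : ℕ) [SmoothOfRelativeDimension n f]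
    (w : Spec (CommRingCat.of k) ⟶ W) (hw : w ≫ f = 𝟙 _) :
    Module.finrank (IsLocalRing.ResidueField (W.presheaf.stalk (w.base (IsLocalRing.closedPoint k))))
      (IsLocalRing.CotangentSpace (W.presheaf.stalk (w.base (IsLocalRing.closedPoint k)))) = n := by
  let p := w.base (IsLocalRing.closedPoint k)
  let P := W.presheaf.stalk p
  show Module.finrank (IsLocalRing.ResidueField P) (IsLocalRing.CotangentSpace P) = n
  obtain ⟨U, hU, V, hV, hpV, e, hstd⟩ :=
    SmoothOfRelativeDimension.exists_isStandardSmoothOfRelativeDimension (n := n) (f := f) p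
  obtain rfl : U = ⊤ := by
    ext z
    simp only [Opens.coe_top, Set.mem_univ, iff_true]
    exact (Subsingleton.elim (f.base p) z) ▸ e hpV
  let A := Γ(W, V)
  let φ : CommRingCat.of k ⟶ A := (Scheme.ΓSpecIso (CommRingCat.of k)).inv ≫ f.appLE ⊤ V e
  have hφs : RingHom.IsStandardSmoothOfRelativeDimension n φ.hom :=
    (RingHom.isStandardSmoothOfRelativeDimension_respectsIso.cancel_left_isIso _ _).2 hstd
  have hφP : Spec.map (φ ≫ W.presheaf.germ V p hpV) = W.fromSpecStalk p ≫ f := by
    rw [← hV.fromSpecStalk_eq_fromSpecStalk hpV, IsAffineOpen.fromSpecStalk]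
    refine (Spec.map_comp _ _).trans ?_
    refine Eq.trans ?_ (Category.assoc _ _ _).symm
    refine congrArg (Spec.map (W.presheaf.germ V p hpV) ≫ ·) ?_
    rw [← IsAffineOpen.SpecMap_appLE_fromSpec f hU hV e, IsAffineOpen.fromSpec_top, Scheme.isoSpec_Spec_inv]
    exact Spec.map_comp _ _
  letI : Algebra k A := φ.hom.toAlgebra
  letI : Algebra A P := (W.presheaf.germ V p hpV).hom.toAlgebra
  letI : Algebra k P := (φ ≫ W.presheaf.germ V p hpV).hom.toAlgebra
  haveI : IsScalarTower k A P := IsScalarTower.of_algebraMap_eq fun c => rfl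
  haveI : Algebra.IsStandardSmoothOfRelativeDimension n k A := hφs
  haveI : Algebra.IsStandardSmooth k A := Algebra.IsStandardSmoothOfRelativeDimension.isStandardSmooth n
  let 𝔭 := (hV.primeIdealOf ⟨p, hpV⟩).asIdeal
  haveI : IsLocalization.AtPrime P 𝔭 := hV.isLocalization_stalk ⟨p, hpV⟩
  haveI : Nontrivial A := RingHom.domain_nontrivial (algebraMap A P)
  haveI : IsLocalizedModule 𝔭.primeCompl (KaehlerDifferential.map k k A P) := inferInstance
  let b := Module.Free.chooseBasis A Ω[A⁄k]
  let bP := b.ofIsLocalizedModule P 𝔭.primeCompl (KaehlerDifferential.map k k A P)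
  haveI : Module.Free P Ω[P⁄k] := Module.Free.of_basis bP
  haveI : Module.Finite P Ω[P⁄k] := Module.Finite.of_basis bP
  have hn : Module.finrank P Ω[P⁄k] = n := by
    rw [Module.finrank_eq_card_basis bP, ← Module.finrank_eq_card_basis b]
    exact Module.finrank_eq_of_rank_eq (Algebra.IsStandardSmoothOfRelativeDimension.rank_kaehlerDifferential n)
  -- the residue field is `k`
  let π : P ⟶ CommRingCat.of k := Scheme.stalkClosedPointTo w
  haveI : IsLocalHom π.hom := Scheme.isLocalHom_stalkClosedPointTo' w
  have hπ : ∀ c : k, π.hom (algebraMap k P c) = c := by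
    have h : (φ ≫ W.presheaf.germ V p hpV) ≫ π = 𝟙 _ := Spec.map_injective (by
      rw [Spec.map_comp, hφP, ← Category.assoc, Scheme.Spec_stalkClosedPointTo_fromSpecStalk, hw, Spec.map_id])
    exact fun c => congrArg (fun g : CommRingCat.of k ⟶ CommRingCat.of k => g.hom c) h
  have hbij : Function.Bijective (Algebra.ofId k (IsLocalRing.ResidueField P)) := by
    refine ⟨RingHom.injective _, fun r => ?_⟩
    obtain ⟨y, rfl⟩ := IsLocalRing.residue_surjective r
    refine ⟨π.hom y, ?_⟩
    show algebraMap k (IsLocalRing.ResidueField P) (π.hom y) = IsLocalRing.residue P y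
    rw [IsScalarTower.algebraMap_apply k P (IsLocalRing.ResidueField P)]
    refine (Ideal.Quotient.mk_eq_mk_iff_sub_mem _ _).2 ?_
    rw [IsLocalRing.mem_maximalIdeal, mem_nonunits_iff]
    exact fun hu => (hu.map π.hom).ne_zero (by rw [map_sub, hπ, sub_self])
  haveI : Algebra.FormallyEtale k (IsLocalRing.ResidueField P) :=
    Algebra.FormallyEtale.of_equiv (AlgEquiv.ofBijective _ hbij)
  rw [SmoothReg.finrank_cotangentSpace_eq (k := k), hn]

end Groth.Agent.QuotSm29
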