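import Groth.Agent.QuotFunLib.Functor
import Groth.Agent.QuotSm29.Lift

/-!
# Deformations of a quotient on a fibre, over any base
-/

set_option autoImplicit false
set_option linter.unusedSectionVars false
set_option backward.isDefEq.respectTransparency false
set_option backward.isDefEq.respectTransparency.types false
set_option linter.style.haveILetI false
set_option maxHeartbeats 800000
universe u

open CategoryTheory CategoryTheory.Limits AlgebraicGeometry TopologicalSpace Opposite IsLocalRing ArtFun ArtFun.Art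

noncomputable section

namespace Groth.Agent.QuotSm29.Rel

open Groth.Agent Groth.Agent.KFlatLib Groth.Agent.H26.FibreQuot Groth.Agent.AffDefLib Groth.Agent.QuotFunLib

variable {k : Type u} [Field k] {S X : Scheme.{u}} (x : X ⟶ S) (s : Art.specPt k ⟶ S) (E : X.Modules)

/-- The point. -/
abbrev pt : Over S := Over.mk s

/-- `Spec A` over the base through the point. -/
abbrev T (A : Art k k) : Over S := Over.mk (Art.specOver A ≫ s)

/-- `Spec` of a map. -/
abbrev mapT {B A : Art k k} (p : B ⟶ A) : Rel.T s A ⟶ Rel.T s B := Over.homMk (Art.specMap p) (by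
  show Art.specMap p ≫ Art.specOver B ≫ s = Art.specOver A ≫ s
  rw [← Category.assoc, Art.specOver_comp])

/-- The closed point. -/
def resPt (A : Art k k) : pt s ⟶ Rel.T s A := Over.homMk (Art.specRes A) (by
  show Art.specRes A ≫ Art.specMap (ofBase A) ≫ s = s
  rw [← Category.assoc, Art.specRes_comp, ← Category.id_comp (Art.specRes (base k k)), comp_specRes_base,
    Category.id_comp])

variable {s}

theorem resPt_left (A : Art k k) : (resPt s A).left = Art.specRes A := rfl

theorem mapT_comp {C B A : Art k k} (q : C ⟶ B) (p : B ⟶ A) : mapT s (q ≫ p) = mapT s p ≫ mapT s q :=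
  Over.OverMorphism.ext (specMap_comp q p)

variable (s)

/-- The point as the base. -/
def toPt : Rel.T s (base k k) ⟶ pt s :=
  Over.homMk (Art.specOver (base k k)) rfl

/-- The `k`-structure of the fibre over the point. -/
@[reducible] def overPt : (PicF.XT x (pt s)).Over (Spec (CommRingCat.of k)) :=
  ⟨PicF.XTproj x (pt s)⟩

attribute [local instance] overPt

variable [hfl : Fact (FlatMod.IsFlatOver x E)]

/-- The situation at the point. -/
def sit {B A : Art k k} (p : B ⟶ A) (hp : Function.Surjective p) (g₀ : pt s ⟶ Rel.T s A)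
    (hg₀ : g₀.left = Art.specRes A) {n : ℕ} (t : Fin n → B) : Sit x E g₀ B A k :=
  mkSit x p hp (mapT s p) rfl g₀ hg₀ E hfl.out t

variable {x E s}

theorem flatA_sit {B A : Art k k} (p : B ⟶ A) (hp : Function.Surjective p) (g₀ : pt s ⟶ Rel.T s A)
    (hg₀ : g₀.left = Art.specRes A) {n : ℕ} (t : Fin n → B) (K : FGA.QuotSet x E (Rel.T s A)) :
    (sit x s E p hp g₀ hg₀ t).FlatA K.1 :=
  fun y => (flat_localMap_iff (f := PicF.XTproj x (Rel.T s A)) _ y).1 (K.2.2 y)

theorem isLift_iff {B A : Art k k} (p : B ⟶ A) (hp : Function.Surjective p) (g₀ : pt s ⟶ Rel.T s A)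
    (hg₀ : g₀.left = Art.specRes A) {n : ℕ} (t : Fin n → B) (K : Subobject (FGA.ET x E (Rel.T s A)))
    (K' : FGA.QuotSet x E (Rel.T s B)) :
    (sit x s E p hp g₀ hg₀ t).IsLift K K'.1 ↔ FGA.quotPull x E (mapT s p) K'.1 = K :=
  ⟨fun h => h.1, fun h => ⟨h, fun z => (flat_localMap_iff (f := PicF.XTproj x (Rel.T s B)) _ z).1 (K'.2.2 z)⟩⟩

theorem flatOver_of_isLift {B A : Art k k} {p : B ⟶ A} {hp : Function.Surjective p} {g₀ : pt s ⟶ Rel.T s A}
    {hg₀ : g₀.left = Art.specRes A} {n : ℕ} {t : Fin n → B}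
    {K : Subobject (FGA.ET x E (Rel.T s A))} {K' : Subobject (FGA.ET x E (Rel.T s B))}
    (h : (sit x s E p hp g₀ hg₀ t).IsLift K K') :
    FlatMod.IsFlatOver (PicF.XTproj x (Rel.T s B)) (cokernel K'.arrow) :=
  fun z => (flat_localMap_iff (f := PicF.XTproj x (Rel.T s B)) _ z).2 (h.2 z)

theorem isCoh_cokernel_of_isLift [LocallyOfFiniteType x] (hE : Coh.IsCoh E) {B A : Art k k} {p : B ⟶ A}
    {hp : Function.Surjective p} {g₀ : pt s ⟶ Rel.T s A} {hg₀ : g₀.left = Art.specRes A} {n : ℕ} {t : Fin n → B}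
    (ht : Alg.KerBasis p.toAlgHom.toRingHom t) {K : FGA.QuotSet x E (Rel.T s A)} {K' : Subobject (FGA.ET x E (Rel.T s B))}
    (h : (sit x s E p hp g₀ hg₀ t).IsLift K.1 K') : Coh.IsCoh (cokernel K'.arrow) :=
  QuotSm29.isCoh_cokernel_of_isLift hE p hp (mapT s p) rfl g₀ hg₀ hfl.out t ht h

variable (x E s)
variable (K₀ : Subobject (FGA.ET x E (pt s)))

variable {s} in
theorem mapT_id (A : Art k k) : mapT s (𝟙 A) = 𝟙 (Rel.T s A) := Over.OverMorphism.ext (specMap_id A)

variable {s} in
theorem resPt_mapT {A B : Art k k} (g : A ⟶ B) : resPt s B ≫ mapT s g = resPt s A := Over.OverMorphism.ext (specRes_comp g)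

variable (K₀ : Subobject (FGA.ET x E (pt s)))

/-- Deformations of a quotient over Artinian algebras. -/
def localQuot : Art k k ⥤ Type (u + 1) where
  obj A := {K : FGA.QuotSet x E (Rel.T s A) // FGA.quotPull x E (resPt s A) K.1 = K₀}
  map {A B} g := ↾fun K => ⟨⟨_, isCoh_flat_quotPull (mapT s g) K.1⟩, by
    rw [← quotPull_comp, resPt_mapT]
    exact K.2⟩
  map_id A := ConcreteCategory.hom_ext _ _ fun K => Subtype.ext (Subtype.ext (by
    change FGA.quotPull x E (mapT s (𝟙 A)) K.1.1 = K.1.1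
    rw [mapT_id, quotPull_id]))
  map_comp {A B C} g h := ConcreteCategory.hom_ext _ _ fun K => Subtype.ext (Subtype.ext (by
    change FGA.quotPull x E (mapT s (g ≫ h)) K.1.1 = FGA.quotPull x E (mapT s h) (FGA.quotPull x E (mapT s g) K.1.1)
    rw [mapT_comp, quotPull_comp]))

/-- `Hom(K, E/K)`. -/
abbrev homSp (K : Subobject (FGA.ET x E (pt s))) : Type u :=
  (K : (PicF.XT x (pt s)).Modules) ⟶ cokernel K.arrow

/-- Transport of `Hom(K, E/K)`. -/
def homTr {K K' : Subobject (FGA.ET x E (pt s))} (e : K = K') : homSp x s E K ≃ₗ[k] homSp x s E K' :=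
  e ▸ LinearEquiv.refl k _

variable {x E}
variable {s}

theorem hk_sit {B A : Art k k} (p : B ⟶ A) (hp : Function.Surjective p) {n : ℕ} (t : Fin n → B) (c : k)
    {M N : (PicF.XT x (pt s)).Modules} (f : M ⟶ N) (y : PicF.XT x (pt s)) (m : M.presheaf.stalk y) :
    smap (c • f) y m = (sit x s E p hp (resPt s A) rfl t).c₀ y c • smap f y m :=
  smap_smul (PicF.XTproj x (pt s)) c f y m

/-- A map of extensions. -/
def morSit {B B' A : Art k k} (p : B ⟶ A) (hp : Function.Surjective p) (p' : B' ⟶ A) (hp' : Function.Surjective p')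
    (q : B ⟶ B') (hqp : q ≫ p' = p) {n m : ℕ} (t : Fin n → B) (t' : Fin m → B') (c : Fin n → Fin m → k)
    (hc : ∀ j, q (t j) = ∑ i, algebraMap k B' (c j i) * t' i) :
    Sit.Mor (sit x s E p hp (resPt s A) rfl t) (sit x s E p' hp' (resPt s A) rfl t') where
  gq := mapT s q
  w := by
    show mapT s p' ≫ mapT s q = mapT s p
    rw [← mapT_comp, hqp]
  q := q.toAlgHom.toRingHom
  ring z' z h b := ringAt_localMap (φ := q.toAlgHom.toRingHom) (f' := PicF.XTproj x (Rel.T s B'))
    (ArtFunLib.HilbLink.XTmap_snd x (mapT s q)) h b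
  γ j i := algebraMap k B' (c j i)
  q_t := hc

theorem res_γ {B' : Art k k} (a : k) : B'.res.toRingHom (algebraMap k B' a) = a := B'.res.commutes a

section Tangent

variable {K₀}

theorem quotPull_resPt_of {A B : Art k k} (p : B ⟶ A) (K' : Subobject (FGA.ET x E (Rel.T s B))) :
    FGA.quotPull x E (resPt s B) K' = FGA.quotPull x E (resPt s A) (FGA.quotPull x E (mapT s p) K') :=
  (quotPull_of_comp (resPt_mapT p) K').symm

theorem toPt_resPt : toPt s ≫ resPt s (base k k) = 𝟙 (Rel.T s (base k k)) := Over.OverMorphism.ext (by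
  show specMap (ofBase (base k k)) ≫ specRes (base k k) = 𝟙 _
  exact (comp_specRes_base _).trans ((congrArg specMap (show ofBase (base k k) = 𝟙 _ from hom_ext (AlgHom.ext fun _ => rfl))).trans (specMap_id _)))

theorem resPt_toPt : resPt s (base k k) ≫ toPt s = 𝟙 (pt s) := Over.OverMorphism.ext (by
  show Art.specRes (base k k) ≫ Art.specMap (ofBase (base k k)) = 𝟙 _
  rw [specRes_comp, ← Category.id_comp (Art.specRes (base k k)), comp_specRes_base])

/-- The quotient itself over the base. -/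
abbrev Kb (K₀ : FGA.QuotSet x E (pt s)) : FGA.QuotSet x E (Rel.T s (base k k)) :=
  ⟨_, isCoh_flat_quotPull (toPt s) K₀⟩

theorem quotPull_Kb (K₀ : FGA.QuotSet x E (pt s)) :
    FGA.quotPull x E (resPt s (base k k)) (Kb K₀).1 = K₀.1 := by
  exact quotPull_of_comp_id resPt_toPt K₀.1

theorem eq_Kb (K₀ : FGA.QuotSet x E (pt s)) (u : (localQuot x s E K₀.1).obj (base k k)) : u.1.1 = (Kb K₀).1 := by
  exact (quotPull_of_comp_id toPt_resPt u.1.1).symm.trans (congrArg (FGA.quotPull x E (toPt s)) u.2)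

theorem h0_localQuot (K₀ : FGA.QuotSet x E (pt s)) : H0 (localQuot x s E K₀.1) :=
  ⟨⟨⟨Kb K₀, quotPull_Kb K₀⟩⟩,
    ⟨fun u v => Subtype.ext (Subtype.ext ((eq_Kb K₀ u).trans (eq_Kb K₀ v).symm))⟩⟩

/-- The trivial deformation. -/
abbrev triv (K₀ : FGA.QuotSet x E (pt s)) (B : Art k k) : FGA.QuotSet x E (Rel.T s B) :=
  ⟨_, isCoh_flat_quotPull (mapT s (ofBase B)) (Kb K₀)⟩

theorem quotPull_triv (K₀ : FGA.QuotSet x E (pt s)) (B : Art k k) :
    FGA.quotPull x E (mapT s (toBase B)) (triv K₀ B).1 = (Kb K₀).1 := by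
  exact quotPull_of_comp_id ((mapT_comp (ofBase B) (toBase B)).symm.trans
    ((congrArg (mapT s) ((eq_toBase _).trans (eq_toBase (𝟙 _)).symm)).trans (mapT_id _))) (Kb K₀).1

variable (K₀ : FGA.QuotSet x E (pt s))

/-- `h` gives the first-order coefficients of the deformation `K'`. -/
def IsTan {B : Art k k} (hp : Function.Surjective (toBase B)) {n : ℕ} (t : Fin n → B)
    (K' : Subobject (FGA.ET x E (Rel.T s B)))
    (h : Fin n → homSp x s E (FGA.quotPull x E (resPt s (base k k)) (Kb K₀).1)) : Prop :=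
  (sit x s E (toBase B) hp (resPt s (base k k)) rfl t).IsDiff (Kb K₀).1 (triv K₀ B).1 K' h

variable {B : Art k k} (hp : Function.Surjective (toBase B)) {n : ℕ} {t : Fin n → B}

theorem isLift_triv (t : Fin n → B) :
    (sit x s E (toBase B) hp (resPt s (base k k)) rfl t).IsLift (Kb K₀).1 (triv K₀ B).1 :=
  (isLift_iff (toBase B) hp _ rfl t (Kb K₀).1 (triv K₀ B)).2 (quotPull_triv K₀ B)

theorem isLift_obj (t : Fin n → B) (u : (localQuot x s E K₀.1).obj B) :
    (sit x s E (toBase B) hp (resPt s (base k k)) rfl t).IsLift (Kb K₀).1 u.1.1 :=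
  (isLift_iff (toBase B) hp _ rfl t (Kb K₀).1 u.1).2 (eq_Kb K₀ ((localQuot x s E K₀.1).map (toBase B) u))

theorem exists_tan (ht : Alg.KerBasis (toBase B).toAlgHom.toRingHom t) (u : (localQuot x s E K₀.1).obj B) :
    ∃ h, IsTan K₀ hp t u.1.1 h :=
  (sit x s E (toBase B) hp (resPt s (base k k)) rfl t).exists_isDiff ht
    (flatA_sit (toBase B) hp (resPt s (base k k)) rfl t (Kb K₀)) (isLift_triv K₀ hp t)
    (isLift_obj K₀ hp t u)

theorem tan_injective {K' K'' : Subobject (FGA.ET x E (Rel.T s B))}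
    {h : Fin n → homSp x s E (FGA.quotPull x E (resPt s (base k k)) (Kb K₀).1)} (h' : IsTan K₀ hp t K' h)
    (h'' : IsTan K₀ hp t K'' h) : K' = K'' :=
  (sit x s E (toBase B) hp (resPt s (base k k)) rfl t).isDiff_injective (isLift_triv K₀ hp t) h' h''

theorem tan_unique (u : (localQuot x s E K₀.1).obj B)
    {h h' : Fin n → homSp x s E (FGA.quotPull x E (resPt s (base k k)) (Kb K₀).1)} (hh₁ : IsTan K₀ hp t u.1.1 h)
    (hh₂ : IsTan K₀ hp t u.1.1 h') : h = h' :=
  (sit x s E (toBase B) hp (resPt s (base k k)) rfl t).isDiff_unique (isLift_triv K₀ hp t)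
    (isLift_obj K₀ hp t u) hh₁ hh₂

theorem tan_surjective [LocallyOfFiniteType x] (hE : Coh.IsCoh E) (ht : Alg.KerBasis (toBase B).toAlgHom.toRingHom t)
    (h : Fin n → homSp x s E (FGA.quotPull x E (resPt s (base k k)) (Kb K₀).1)) :
    ∃ u : (localQuot x s E K₀.1).obj B, IsTan K₀ hp t u.1.1 h := by
  obtain ⟨K', hK', hd⟩ := (sit x s E (toBase B) hp (resPt s (base k k)) rfl t).exists_isDiff_of ht
    (flatA_sit (toBase B) hp (resPt s (base k k)) rfl t (Kb K₀)) (isLift_triv K₀ hp t) h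
  refine ⟨⟨⟨K', isCoh_cokernel_of_isLift hE ht hK', flatOver_of_isLift hK'⟩, ?_⟩, hd⟩
  show FGA.quotPull x E (resPt s B) K' = K₀.1
  exact (quotPull_resPt_of (toBase B) K').trans ((congrArg _ hK'.1).trans (quotPull_Kb K₀))

theorem quotPull_triv_map {B' : Art k k} (q : B ⟶ B') :
    FGA.quotPull x E (mapT s q) (triv K₀ B).1 = (triv K₀ B').1 :=
  quotPull_of_comp ((mapT_comp (ofBase B) q).symm.trans (congrArg (mapT s) (ofBase_comp q))) (Kb K₀).1

theorem tan_natural {B' : Art k k} (hp' : Function.Surjective (toBase B')) {m : ℕ} {t' : Fin m → B'} (q : B ⟶ B')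
    (c : Fin n → Fin m → k) (hc : ∀ j, q (t j) = ∑ i, algebraMap k B' (c j i) * t' i)
    (u : (localQuot x s E K₀.1).obj B) {h : Fin n → homSp x s E (FGA.quotPull x E (resPt s (base k k)) (Kb K₀).1)}
    (hh : IsTan K₀ hp t u.1.1 h)
    {h' : Fin m → homSp x s E (FGA.quotPull x E (resPt s (base k k)) (Kb K₀).1)}
    (hh' : IsTan K₀ hp' t' ((localQuot x s E K₀.1).map q u).1.1 h') (i : Fin m) : h' i = ∑ j, c j i • h j := by
  have e := Sit.isDiff_natural (morSit (x := x) (E := E) (toBase B) hp (toBase B') hp' q (eq_toBase _) t t' c hc)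
    (fun a _ _ f y v => hk_sit _ hp' t' a f y v) (isLift_triv K₀ hp t) (isLift_obj K₀ hp t u) hh
    (quotPull_triv_map K₀ q) rfl hh' i
  refine e.trans (Finset.sum_congr rfl fun j _ => ?_)
  exact congrArg (· • h j) (res_γ (B' := B') (c j i))

end Tangent

variable {K₀}

/-- The tangent space is `Hom(K₀, E/K₀)`. -/
theorem nonempty_tangentSpace_linearEquiv [LocallyOfFiniteType x] (hE : Coh.IsCoh E) (K₀ : FGA.QuotSet x E (pt s))
    [TangentStr (localQuot x s E K₀.1)] :
    Nonempty (TangentSpace (localQuot x s E K₀.1) ≃ₗ[k] homSp x s E K₀.1) := by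
  let F := localQuot x s E K₀.1
  have hd : Function.Surjective (toBase (dual k k)) := dual_kerBasis.surj
  have hd2 : Function.Surjective (toBase (dual2 k k)) := dual2_kerBasis.surj
  choose f hf using fun u : F.obj (dual k k) => exists_tan K₀ hd dual_kerBasis u
  have hfu : ∀ u h, IsTan K₀ hd (fun _ : Fin 1 => deps) u.1.1 h → h = f u := fun u h hh =>
    tan_unique K₀ hd u hh (hf u)
  let tr := homTr x s E (quotPull_Kb K₀)
  refine ⟨LinearEquiv.ofBijective
    { toFun := fun v => tr (f v.val 0), map_add' := fun v w => ?_, map_smul' := fun a v => ?_ } ⟨fun v w hvw => ?_, fun g => ?_⟩⟩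
  · obtain ⟨u, hu⟩ := tan_surjective K₀ hd2 hE dual2_kerBasis ![f v.val 0, f w.val 0]
    have hp : ∀ (q : dual2 k k ⟶ dual k k) (c : Fin 2 → k),
        (∀ j, q (eps2 j) = algebraMap k (dual k k) (c j) * deps) →
          f (F.map q u) 0 = c 0 • f v.val 0 + c 1 • f w.val 0 := fun q c hc => by
      rw [tan_natural K₀ hd2 hd q (fun j _ => c j) (fun j => by rw [Fin.sum_univ_one]; exact hc j) u hu (hf _) 0,
        Fin.sum_univ_two]
      rfl
    have hc : ∀ (L : k × k →ₗ[k] k) (q : dual2 k k ⟶ dual k k), q.toAlgHom = Art.tszeMap (Λ := k) L → ∀ j,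
        q (eps2 j) = algebraMap k (dual k k) (![L (1, 0), L (0, 1)] j) * deps := fun L q hq j => by
      have he : ∀ z : k × k, q (TrivSqZeroExt.inr z : TrivSqZeroExt k (k × k)) = algebraMap k (dual k k) (L z) * deps :=
        fun z => by
          rw [show q (TrivSqZeroExt.inr z : TrivSqZeroExt k (k × k)) = (TrivSqZeroExt.inr (L z) : DualNumber k) from
            (DFunLike.congr_fun hq _).trans (TrivSqZeroExt.ext rfl rfl)]
          have key : ∀ a : k, (TrivSqZeroExt.inr a : DualNumber k) = TrivSqZeroExt.inl a * TrivSqZeroExt.inr 1 :=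
            fun a => by rw [TrivSqZeroExt.inl_mul_inr, smul_eq_mul, mul_one]
          exact key (L z)
      fin_cases j <;> exact he _
    have heq : ∀ a : F.obj (dual k k), f (F.map Art.pr₁ u) 0 = f a 0 → F.map Art.pr₁ u = a := fun a h =>
      Subtype.ext (Subtype.ext (tan_injective K₀ hd (hf _)
        ((show f (F.map Art.pr₁ u) = f a from funext fun l => Fin.fin_one_eq_zero l ▸ h) ▸ hf a)))
    have heq₂ : ∀ a : F.obj (dual k k), f (F.map Art.pr₂ u) 0 = f a 0 → F.map Art.pr₂ u = a := fun a h =>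
      Subtype.ext (Subtype.ext (tan_injective K₀ hd (hf _)
        ((show f (F.map Art.pr₂ u) = f a from funext fun l => Fin.fin_one_eq_zero l ▸ h) ▸ hf a)))
    have e₁ : F.map Art.pr₁ u = v.val := heq _ (by rw [hp _ _ (hc (LinearMap.fst k k k) _ rfl)]; simp)
    have e₂ : F.map Art.pr₂ u = w.val := heq₂ _ (by rw [hp _ _ (hc (LinearMap.snd k k k) _ rfl)]; simp)
    have hadd : (v + w).val = F.map Art.plus u := by
      rw [← TangentStr.add_eq (F := F) u, e₁, e₂]
      rfl
    show tr (f (v + w).val 0) = tr (f v.val 0) + tr (f w.val 0)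
    rw [hadd, hp _ _ (hc (LinearMap.fst k k k + LinearMap.snd k k k) _ rfl), ← map_add]
    simp
  · have hsm : (a • v).val = F.map (Art.scale a) v.val := TangentStr.smul_eq (F := F) a v.val
    show tr (f (a • v).val 0) = a • tr (f v.val 0)
    rw [hsm, tan_natural K₀ hd hd (Art.scale a) (fun _ _ => a) (fun j => by
      rw [Fin.sum_univ_one]
      have key : ∀ c : k, (TrivSqZeroExt.inr c : DualNumber k) = TrivSqZeroExt.inl c * TrivSqZeroExt.inr 1 :=
        fun c => by rw [TrivSqZeroExt.inl_mul_inr, smul_eq_mul, mul_one]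
      refine Eq.trans ?_ (key a)
      exact TrivSqZeroExt.ext rfl (by
        change a • TrivSqZeroExt.snd (DualNumber.eps : DualNumber k) = _
        simp)) v.val (hf _) (hf _) 0, Fin.sum_univ_one, map_smul]
  · have h := tr.injective hvw
    exact Subtype.ext (Subtype.ext (tan_injective K₀ hd (hf v.val)
      ((show f v.val = f w.val from funext fun l => Fin.fin_one_eq_zero l ▸ h) ▸ hf w.val)))
  · obtain ⟨u, hu⟩ := tan_surjective K₀ hd hE dual_kerBasis fun _ => tr.symm g
    refine ⟨TangentSpace.mk u, ?_⟩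
    show tr (f u 0) = g
    rw [← hfu u _ hu, LinearEquiv.apply_symm_apply]


end Groth.Agent.QuotSm29.Rel
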