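import Groth.Agent.QuotSm29.Lift
import Groth.Agent.QuotSm29.Lft
import Groth.Agent.S2793

/-!
# Smoothness of a scheme representing a Quot functor where the obstruction space vanishes
-/

set_option autoImplicit false
set_option linter.unusedSectionVars false
set_option backward.isDefEq.respectTransparency false
set_option backward.isDefEq.respectTransparency.types false
set_option linter.style.haveILetI false
set_option maxHeartbeats 800000
universe u

open CategoryTheory CategoryTheory.Limits AlgebraicGeometry TopologicalSpace Opposite IsLocalRing ArtFun ArtFun.Art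

noncomputable section

namespace Groth.Agent.QuotSm29

open Groth.Agent Groth.Agent.QuotFunLib

/-- A map out of the spectrum of a local ring factors through the stalk at the image of the closed point. -/
theorem exists_stalk_factor {R : Type u} [CommRing R] [IsLocalRing R] {Q : Scheme.{u}}
    (f : Spec (CommRingCat.of R) ⟶ Q) (q : Q) (hq : f.base (IsLocalRing.closedPoint R) = q) :
    ∃ ψ : Q.presheaf.stalk q ⟶ CommRingCat.of R, IsLocalHom ψ.hom ∧ Spec.map ψ ≫ Q.fromSpecStalk q = f := by
  subst hq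
  exact ⟨Scheme.stalkClosedPointTo f, inferInstance, Scheme.Spec_stalkClosedPointTo_fromSpecStalk f⟩

/-- Maps out of a stalk are determined by the morphisms of spectra. -/
theorem stalk_hom_ext {R : Type u} [CommRing R] {Q : Scheme.{u}} {q : Q}
    {ψ₁ ψ₂ : Q.presheaf.stalk q ⟶ CommRingCat.of R}
    (h : Spec.map ψ₁ ≫ Q.fromSpecStalk q = Spec.map ψ₂ ≫ Q.fromSpecStalk q) : ψ₁ = ψ₂ :=
  Spec.map_injective ((cancel_mono _).1 h)

variable {k : Type u} [Field k] {S X : Scheme.{u}}

/-- Vanishing of `Ext¹` on the fibre makes a scheme representing the Quot functor smooth at the point. -/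
theorem exists_open_smooth (σ : S ⟶ Spec (CommRingCat.of k)) [LocallyOfFiniteType σ] (x : X ⟶ S) [IsProper x]
    {H : X.Modules} (hH : Coh.IsCoh H) (hHflat : FlatMod.IsFlatOver x H)
    {Q : Over S} (Ku : FGA.QuotSet x H Q) (hQ : FGA.QuotRepresentedBy x H Q Ku)
    (s : Spec (CommRingCat.of k) ⟶ S) (hs : s ≫ σ = 𝟙 _)
    (K₀ : FGA.QuotSet x H (Over.mk s)) (g : Over.mk s ⟶ Q) (hg : FGA.quotPull x H g Ku.1 = K₀.1)
    [HasExt.{u} (PicF.XT x (Over.mk s)).Modules]
    (hExt : Subsingleton (Abelian.Ext.{u} (Subobject.underlying.obj K₀.1) (cokernel K₀.1.arrow) 1)) :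
    ∃ U : Q.left.Opens, g.left.base (IsLocalRing.closedPoint k) ∈ U ∧ Smooth (U.ι ≫ Q.hom) := by
  haveI : IsLocallyNoetherian S := LocallyOfFiniteType.isLocallyNoetherian σ
  haveI : LocallyOfFiniteType Q.hom := lft_of_quotRepresented x hH Ku hQ
  haveI := hQ.1
  let q : Q.left := g.left.base (IsLocalRing.closedPoint k)
  show ∃ U : Q.left.Opens, q ∈ U ∧ _
  refine (S2793.result Q.hom q).2 fun A' _ _ _ h _ I hI hIm g₀ hcompat hloc _hsurj => ?_
  -- the structure maps
  let a' : Spec (CommRingCat.of A') ⟶ S := Spec.map (CommRingCat.ofHom h) ≫ S.fromSpecStalk _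
  let φ : CommRingCat.of k ⟶ CommRingCat.of A' := Spec.preimage (a' ≫ σ)
  have hφ : Spec.map φ = a' ≫ σ := Spec.map_preimage _
  let ιQ : CommRingCat.of k ⟶ Q.left.presheaf.stalk q := Spec.preimage (Q.left.fromSpecStalk q ≫ Q.hom ≫ σ)
  have hιQ : Spec.map ιQ = Q.left.fromSpecStalk q ≫ Q.hom ≫ σ := Spec.map_preimage _
  let πg : Q.left.presheaf.stalk q ⟶ CommRingCat.of k := Scheme.stalkClosedPointTo g.left
  haveI : IsLocalHom πg.hom := Scheme.isLocalHom_stalkClosedPointTo' g.left
  have hπg : Spec.map πg ≫ Q.left.fromSpecStalk q = g.left :=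
    Scheme.Spec_stalkClosedPointTo_fromSpecStalk g.left
  have hπι : ∀ c : k, πg.hom (ιQ.hom c) = c := by
    have e : ιQ ≫ πg = 𝟙 _ := Spec.map_injective (by
      rw [Spec.map_comp, hιQ, ← Category.assoc, hπg, ← Category.assoc, show g.left ≫ Q.hom = s from Over.w g, hs,
        Spec.map_id])
    exact fun c => congrArg (fun e : CommRingCat.of k ⟶ CommRingCat.of k => e.hom c) e
  have hcompat' : CommRingCat.ofHom h ≫ CommRingCat.ofHom (Ideal.Quotient.mk I) =
      Q.hom.stalkMap q ≫ CommRingCat.ofHom g₀ := CommRingCat.hom_ext hcompat.symm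
  have hg₀ι : ∀ c : k, g₀ (ιQ.hom c) = Ideal.Quotient.mk I (φ.hom c) := by
    have e : ιQ ≫ CommRingCat.ofHom g₀ = φ ≫ CommRingCat.ofHom (Ideal.Quotient.mk I) := Spec.map_injective (by
      rw [Spec.map_comp, Spec.map_comp, hιQ, hφ]
      show Spec.map (CommRingCat.ofHom g₀) ≫ Q.left.fromSpecStalk q ≫ Q.hom ≫ σ =
        Spec.map (CommRingCat.ofHom (Ideal.Quotient.mk I)) ≫ (Spec.map (CommRingCat.ofHom h) ≫ S.fromSpecStalk _) ≫ σ
      rw [← Scheme.SpecMap_stalkMap_fromSpecStalk_assoc, ← Spec.map_comp_assoc, ← hcompat', Spec.map_comp_assoc,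
        Category.assoc])
    exact fun c => congrArg (fun e : CommRingCat.of k ⟶ CommRingCat.of (A' ⧸ I) => e.hom c) e
  letI : Algebra k A' := φ.hom.toAlgebra
  -- the residue field of `A'` is `k`
  have hmI : I ≤ maximalIdeal A' := le_maximalIdeal hI
  have hres : ∀ a : A', ∃ c : k, a - algebraMap k A' c ∈ maximalIdeal A' := by
    intro a
    obtain ⟨b, hb⟩ := _hsurj a
    refine ⟨πg.hom b, ?_⟩
    have hb' : b - ιQ.hom (πg.hom b) ∈ maximalIdeal (Q.left.presheaf.stalk q) := by
      rw [mem_maximalIdeal, mem_nonunits_iff]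
      exact fun hu => (hu.map πg.hom).ne_zero (by rw [map_sub, hπι, sub_self])
    have h1 := hloc _ hb'
    rw [map_sub, hg₀ι] at h1
    have h2 := Ideal.sub_mem _ h1 hb
    rw [sub_sub_sub_cancel_left, ← map_sub] at h2
    have := Ideal.mem_quotient_iff_mem_sup.1 h2
    rwa [sup_eq_left.2 hmI] at this
  have hbij : Function.Bijective (Algebra.ofId k (ResidueField A')) := by
    refine ⟨RingHom.injective _, fun r => ?_⟩
    obtain ⟨a, rfl⟩ := IsLocalRing.residue_surjective r
    obtain ⟨c, hc⟩ := hres a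
    refine ⟨c, ?_⟩
    show algebraMap k (ResidueField A') c = residue A' a
    rw [IsScalarTower.algebraMap_apply k A' (ResidueField A'), ResidueField.algebraMap_eq]
    exact ((Ideal.Quotient.mk_eq_mk_iff_sub_mem _ _).2 hc).symm
  let res : A' →ₐ[k] k :=
    (AlgEquiv.ofBijective _ hbij).symm.toAlgHom.comp (IsScalarTower.toAlgHom k A' (ResidueField A'))
  have hres' : Function.Surjective res := fun c => ⟨algebraMap k A' c, res.commutes c⟩
  let B : Art k k := Art.of A' res hres'
  let p : B ⟶ Art.quot B I hmI := Art.quotMk B I hmI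
  have hp : IsSemismallExt p := by
    refine ⟨Art.quotMk_surjective B I hmI, ?_⟩
    rw [show RingHom.ker p.toAlgHom = I from Ideal.mk_ker (I := I), mul_comm]
    exact hIm
  -- the family over the quotient
  let τA : Art.spec (Art.quot B I hmI) ⟶ S := Art.specMap p ≫ a'
  let mA : Over.mk τA ⟶ Q := Over.homMk (Spec.map (CommRingCat.ofHom g₀) ≫ Q.left.fromSpecStalk q) (by
    show (Spec.map (CommRingCat.ofHom g₀) ≫ Q.left.fromSpecStalk q) ≫ Q.hom =
      Spec.map (CommRingCat.ofHom (Ideal.Quotient.mk I)) ≫ Spec.map (CommRingCat.ofHom h) ≫ S.fromSpecStalk _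
    rw [Category.assoc, ← Scheme.SpecMap_stalkMap_fromSpecStalk, ← Spec.map_comp_assoc, ← Spec.map_comp_assoc,
      hcompat'])
  have hg₀res : CommRingCat.ofHom g₀ ≫ CommRingCat.ofHom (Art.quot B I hmI).res.toRingHom = πg := by
    refine CommRingCat.hom_ext (RingHom.ext fun b => ?_)
    show (Art.quot B I hmI).res (g₀ b) = πg.hom b
    have hb' : b - ιQ.hom (πg.hom b) ∈ maximalIdeal (Q.left.presheaf.stalk q) := by
      rw [mem_maximalIdeal, mem_nonunits_iff]
      exact fun hu => (hu.map πg.hom).ne_zero (by rw [map_sub, hπι, sub_self])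
    obtain ⟨a, ha, ha'⟩ := (Ideal.mem_map_iff_of_surjective _ Ideal.Quotient.mk_surjective).1 (hloc _ hb')
    have h0 : g₀ b = Ideal.Quotient.mk I (a + algebraMap k A' (πg.hom b)) := by
      rw [map_add, ha', map_sub]
      exact (sub_add_cancel (g₀ b) (Ideal.Quotient.mk I (φ.hom (πg.hom b)))).symm.trans
        (by rw [hg₀ι]; rfl)
    rw [h0]
    show B.res (a + algebraMap k A' (πg.hom b)) = _
    rw [map_add, (Art.mem_maximalIdeal_iff B a).1 ha, zero_add]
    exact res.commutes _
  have hresA : Art.specRes (Art.quot B I hmI) ≫ mA.left = g.left := by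
    show Spec.map _ ≫ Spec.map (CommRingCat.ofHom g₀) ≫ Q.left.fromSpecStalk q = _
    rw [← Spec.map_comp_assoc, hg₀res, hπg]
  let g₁ : Over.mk s ⟶ Over.mk τA := Over.homMk (Art.specRes (Art.quot B I hmI)) (by
    show Art.specRes (Art.quot B I hmI) ≫ τA = s
    rw [← show g.left ≫ Q.hom = s from Over.w g, ← hresA, Category.assoc]
    exact congrArg _ (Over.w mA).symm)
  let K : FGA.QuotSet x H (Over.mk τA) := ⟨FGA.quotPull x H mA Ku.1, isCoh_flat_quotPull mA Ku⟩
  have hK : FGA.quotPull x H g₁ K.1 = K₀.1 := by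
    show FGA.quotPull x H g₁ (FGA.quotPull x H mA Ku.1) = _
    rw [← quotPull_comp, show g₁ ≫ mA = g from Over.OverMorphism.ext hresA, hg]
  let gA : Over.mk τA ⟶ Over.mk a' := Over.homMk (Art.specMap p) rfl
  obtain ⟨K', hK'⟩ := exists_lift_semismall (k := k) hH hHflat p hp gA rfl g₁ rfl K (hK ▸ hExt)
  haveI : IsLocallyNoetherian (Over.mk τA).left :=
    inferInstanceAs (IsLocallyNoetherian (Spec (CommRingCat.of (Art.quot B I hmI))))
  haveI : IsLocallyNoetherian (Over.mk a').left :=
    inferInstanceAs (IsLocallyNoetherian (Spec (CommRingCat.of A')))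
  obtain ⟨gB, hgB, -⟩ := hQ.2 (Over.mk a') K'
  have hfac : gA ≫ gB = mA := by
    refine (hQ.2 (Over.mk τA) K).unique ?_ rfl
    rw [quotPull_comp, hgB]
    exact hK'
  have hfac' : Art.specMap p ≫ gB.left = mA.left := congrArg CommaMorphism.left hfac
  have hq : gB.left.base (IsLocalRing.closedPoint A') = q := by
    have e : Art.specRes B ≫ gB.left = g.left := by
      rw [← Art.specRes_comp p, Category.assoc, hfac', hresA]
    show _ = g.left.base (IsLocalRing.closedPoint k)
    rw [← e]
    haveI : IsLocalHom B.res.toRingHom := ⟨fun a ha => by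
      by_contra hc
      exact ha.ne_zero ((Art.mem_maximalIdeal_iff B a).1 ((mem_maximalIdeal a).2 hc))⟩
    exact congrArg gB.left.base (IsLocalRing.comap_closedPoint B.res.toRingHom).symm
  obtain ⟨ψ, -, hψ⟩ := exists_stalk_factor gB.left q hq
  refine ⟨ψ.hom, ?_, ?_⟩
  · have e : Q.hom.stalkMap q ≫ ψ = CommRingCat.ofHom h := stalk_hom_ext (by
      rw [Spec.map_comp, Category.assoc, Scheme.SpecMap_stalkMap_fromSpecStalk, ← Category.assoc, hψ]
      exact Over.w gB)
    exact congrArg CommRingCat.Hom.hom e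
  · have e : ψ ≫ CommRingCat.ofHom (Ideal.Quotient.mk I) = CommRingCat.ofHom g₀ := stalk_hom_ext (by
      rw [Spec.map_comp, Category.assoc, hψ]
      exact hfac')
    exact congrArg CommRingCat.Hom.hom e

end Groth.Agent.QuotSm29
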