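import Groth.Agent.QuotSm29.Rel
import Groth.Agent.QuotSm29.Smooth
import Groth.Agent.QuotSm29.RatPoint
import Groth.Agent.QuotFunLib.Link
import Groth.Agent.Synt29.SmoothDim

/-!
# The relative dimension of a scheme representing a Quot functor
-/

set_option autoImplicit false
set_option linter.unusedSectionVars false
set_option backward.isDefEq.respectTransparency false
set_option backward.isDefEq.respectTransparency.types false
set_option linter.style.haveILetI false
set_option maxHeartbeats 800000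
universe u

open CategoryTheory CategoryTheory.Limits AlgebraicGeometry TopologicalSpace Opposite IsLocalRing ArtFun ArtFun.Art

noncomputable section

namespace Groth.Agent.QuotSm29

open Groth.Agent Groth.Agent.KFlatLib Groth.Agent.ArtFunLib.HilbLink

variable {k : Type u} [Field k] {S X : Scheme.{u}} {x : X ⟶ S} {E : X.Modules}
  {Q : Over S} (Ku : FGA.QuotSet x E Q) {s : Art.specPt k ⟶ S} (g : Over.mk s ⟶ Q)

/-- The fibre of `Q` over the point. -/
abbrev fib (Q : Over S) (s : Art.specPt k ⟶ S) : Over (Art.specPt k) := Over.mk (pullback.snd Q.hom s)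

/-- The point of the fibre. -/
def fibPt : ArtFunLib.HilbLink.pt (k := k) ⟶ fib Q s :=
  Over.homMk (pullback.lift g.left (𝟙 _) ((Over.w g).trans (Category.id_comp s).symm)) (pullback.lift_snd _ _ _)

/-- A point of the fibre as a point of `Q`. -/
def toQ {A : Art k k} (u : ArtFunLib.HilbLink.T A ⟶ fib Q s) : Rel.T s A ⟶ Q :=
  Over.homMk (u.left ≫ pullback.fst Q.hom s) (by
    show (u.left ≫ pullback.fst Q.hom s) ≫ Q.hom = Art.specOver A ≫ s
    rw [Category.assoc, pullback.condition, ← Category.assoc]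
    exact congrArg (· ≫ s) (Over.w u))

theorem toQ_natural {A B : Art k k} (f : A ⟶ B) (u : ArtFunLib.HilbLink.T A ⟶ fib Q s) :
    toQ (ArtFunLib.HilbLink.mapPt f ≫ u) = Rel.mapT s f ≫ toQ u :=
  Over.OverMorphism.ext (Category.assoc _ _ _)

theorem resPt_toQ {A : Art k k} (φ : letI := alg (fib Q s) (fibPt g); HomSet (R₀ (fib Q s) (fibPt g)) (res (fib Q s) (fibPt g)) A) :
    Rel.resPt s A ≫ toQ (toH (fib Q s) (fibPt g) φ) = g := by
  refine Over.OverMorphism.ext ?_
  show Art.specRes A ≫ (toH (fib Q s) (fibPt g) φ).left ≫ pullback.fst Q.hom s = g.left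
  rw [← Category.assoc]
  refine (congrArg (· ≫ pullback.fst Q.hom s) (congrArg CommaMorphism.left (resPt_toH (fib Q s) (fibPt g) φ))).trans ?_
  exact pullback.lift_fst _ _ _

variable (K₀ : FGA.QuotSet x E (Over.mk s))

/-- Maps of the local ring of the fibre give deformations of the quotient. -/
def univFam [Fact (FlatMod.IsFlatOver x E)] (hg : FGA.quotPull x E g Ku.1 = K₀.1) :
    letI := alg (fib Q s) (fibPt g)
    Family (R₀ (fib Q s) (fibPt g)) (res (fib Q s) (fibPt g)) (Rel.localQuot x s E K₀.1) :=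
  letI := alg (fib Q s) (fibPt g)
  { app := fun A φ => ⟨⟨_, QuotFunLib.isCoh_flat_quotPull (toQ (toH (fib Q s) (fibPt g) φ)) Ku⟩,
      (QuotFunLib.quotPull_of_comp (resPt_toQ g φ) Ku.1).trans hg⟩
    natural := fun {A B} f φ => Subtype.ext (Subtype.ext
      ((congrArg (fun t => FGA.quotPull x E t Ku.1)
        ((congrArg toQ (toH_natural (fib Q s) (fibPt g) f φ)).trans (toQ_natural f _))).trans
        (QuotFunLib.quotPull_comp (toQ (toH (fib Q s) (fibPt g) φ)) (Rel.mapT s f) Ku.1))) }

theorem isUniversal_univFam [Fact (FlatMod.IsFlatOver x E)] (hQ : FGA.QuotRepresentedBy x E Q Ku)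
    (hg : FGA.quotPull x E g Ku.1 = K₀.1) :
    letI := alg (fib Q s) (fibPt g); IsUniversal (univFam Ku g K₀ hg) := by
  letI := alg (fib Q s) (fibPt g)
  intro A
  haveI : IsLocallyNoetherian (Rel.T s A).left :=
    inferInstanceAs (IsLocallyNoetherian (Spec (CommRingCat.of A.carrier)))
  haveI : IsLocallyNoetherian (Over.mk s).left := inferInstanceAs (IsLocallyNoetherian (Spec (CommRingCat.of k)))
  have huniq : ∀ {T : Over S} [IsLocallyNoetherian T.left] (t t' : T ⟶ Q),
      FGA.quotPull x E t Ku.1 = FGA.quotPull x E t' Ku.1 → t = t' := fun {T} _ t t' e =>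
    (hQ.2 T ⟨_, QuotFunLib.isCoh_flat_quotPull t Ku⟩).unique rfl e.symm
  refine ⟨fun φ φ' e => ?_, fun I => ?_⟩
  · have e1 := congrArg (fun t : Rel.T s A ⟶ Q => t.left)
      (huniq (toQ (toH (fib Q s) (fibPt g) φ)) (toQ (toH (fib Q s) (fibPt g) φ')) (congrArg (fun w => w.1.1) e))
    have e2 : (toH (fib Q s) (fibPt g) φ).left = (toH (fib Q s) (fibPt g) φ').left :=
      pullback.hom_ext e1 ((Over.w (toH (fib Q s) (fibPt g) φ)).trans (Over.w (toH (fib Q s) (fibPt g) φ')).symm)
    rw [toH_left, toH_left, cancel_mono] at e2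
    exact Subtype.ext (AlgHom.coe_ringHom_injective (congrArg CommRingCat.Hom.hom (Spec.map_injective e2)))
  · obtain ⟨t, ht, -⟩ := hQ.2 (Rel.T s A) I.1
    have ht' : Rel.resPt s A ≫ t = g := huniq _ _
      ((QuotFunLib.quotPull_comp t (Rel.resPt s A) Ku.1).trans ((congrArg _ ht).trans (I.2.trans hg.symm)))
    let u : ArtFunLib.HilbLink.T A ⟶ fib Q s :=
      Over.homMk (pullback.lift t.left (Art.specOver A) (Over.w t)) (pullback.lift_snd _ _ _)
    have hu : ArtFunLib.HilbLink.resPt A ≫ u = fibPt g := Over.OverMorphism.ext (pullback.hom_ext (by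
      show (Art.specRes A ≫ pullback.lift t.left (Art.specOver A) _) ≫ pullback.fst _ _ = pullback.lift g.left _ _ ≫ pullback.fst _ _
      rw [Category.assoc, pullback.lift_fst, pullback.lift_fst]
      exact congrArg CommaMorphism.left ht')
      ((Over.w (ArtFunLib.HilbLink.resPt A ≫ u)).trans (Over.w (fibPt g)).symm))
    obtain ⟨φ, hφ⟩ := exists_hom (fib Q s) (fibPt g) u hu
    have hres : φ ≫ CommRingCat.ofHom A.res.toRingHom = ρ (fib Q s) (fibPt g) := by
      apply Spec.map_injective
      rw [Spec.map_comp, ← cancel_mono ((fib Q s).left.fromSpecStalk (p₀ (fib Q s) (fibPt g))), map_ρ, Category.assoc, hφ]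
      exact congrArg (fun t : ArtFunLib.HilbLink.pt (k := k) ⟶ fib Q s => t.left) hu
    have hα : α (fib Q s) (fibPt g) ≫ φ = CommRingCat.ofHom (algebraMap k A.carrier) := by
      apply Spec.map_injective
      rw [Spec.map_comp, map_α, ← Category.assoc, hφ]
      exact Over.w u
    let ψ : HomSet (R₀ (fib Q s) (fibPt g)) (res (fib Q s) (fibPt g)) A :=
      ⟨{ φ.hom with commutes' := fun c => congr($hα c) }, AlgHom.ext fun r => congr($hres r)⟩
    refine ⟨ψ, Subtype.ext (Subtype.ext ?_)⟩
    have hψ : toH (fib Q s) (fibPt g) ψ = u := Over.OverMorphism.ext hφ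
    refine (congrArg (fun t' => FGA.quotPull x E t' Ku.1)
      (show toQ (toH (fib Q s) (fibPt g) ψ) = t from ?_)).trans ht
    rw [hψ]
    exact Over.OverMorphism.ext (pullback.lift_fst _ _ _)

theorem finrank_cotangentSpace_of_ringEquiv {R T : Type u} [CommRing R] [IsLocalRing R] [IsNoetherianRing R]
    [CommRing T] [IsLocalRing T] (e : R ≃+* T) :
    Module.finrank (ResidueField T) (CotangentSpace T) = Module.finrank (ResidueField R) (CotangentSpace R) := by
  haveI : IsNoetherianRing T := isNoetherianRing_of_ringEquiv R e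
  rw [← spanFinrank_maximalIdeal_eq_finrank_cotangentSpace, ← spanFinrank_maximalIdeal_eq_finrank_cotangentSpace,
    ← map_ringEquiv_maximalIdeal e, Ideal.spanFinrank_map_eq_of_ringEquiv]

attribute [local instance] Rel.overPt

theorem finrank_cotangentSpace_fib [IsLocallyNoetherian S] [LocallyOfFiniteType x] [QuasiCompact x] [QuasiSeparated x]
    (hE : Coh.IsCoh E) (hEfl : FlatMod.IsFlatOver x E) (hQ : FGA.QuotRepresentedBy x E Q Ku)
    (hg : FGA.quotPull x E g Ku.1 = K₀.1) :
    Module.finrank (IsLocalRing.ResidueField (R₀ (fib Q s) (fibPt g)))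
        (IsLocalRing.CotangentSpace (R₀ (fib Q s) (fibPt g))) =
      Module.finrank k (Rel.homSp x s E K₀.1) := by
  haveI : Fact (FlatMod.IsFlatOver x E) := ⟨hEfl⟩
  haveI : LocallyOfFiniteType Q.hom := lft_of_quotRepresented x hE Ku hQ
  haveI : IsLocallyNoetherian (fib Q s).left := LocallyOfFiniteType.isLocallyNoetherian (pullback.snd Q.hom s)
  letI := alg (fib Q s) (fibPt g)
  have hu := isUniversal_univFam Ku g K₀ hQ hg
  obtain ⟨T⟩ := Groth.Agent.ArtFunLib.nonempty_tangentStr (Rel.h0_localQuot K₀) (QuotFunLib.heps_of_universal _ hu)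
  letI := T
  obtain ⟨e⟩ := Rel.nonempty_tangentSpace_linearEquiv (x := x) hE K₀
  rw [ArtFunLib.StalkProRep.finrank_cotangentSpace _ hu]
  exact e.finrank_eq

/-- Smoothness with the relative dimension. -/
theorem exists_open_smooth_relDim (σ : S ⟶ Spec (CommRingCat.of k)) [LocallyOfFiniteType σ] (x : X ⟶ S) [IsProper x]
    {H : X.Modules} (hH : Coh.IsCoh H) (hHflat : FlatMod.IsFlatOver x H)
    {Q : Over S} (Ku : FGA.QuotSet x H Q) (hQ : FGA.QuotRepresentedBy x H Q Ku)
    (s : Spec (CommRingCat.of k) ⟶ S) (hs : s ≫ σ = 𝟙 _)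
    (K₀ : FGA.QuotSet x H (Over.mk s)) (g : Over.mk s ⟶ Q) (hg : FGA.quotPull x H g Ku.1 = K₀.1)
    [HasExt.{u} (PicF.XT x (Over.mk s)).Modules]
    (hExt : Subsingleton (Abelian.Ext.{u} (Subobject.underlying.obj K₀.1) (cokernel K₀.1.arrow) 1)) :
    ∃ U : Q.left.Opens, g.left.base (IsLocalRing.closedPoint k) ∈ U ∧
      SmoothOfRelativeDimension (Module.finrank k (Rel.homSp x s H K₀.1)) (U.ι ≫ Q.hom) := by
  haveI : IsLocallyNoetherian S := LocallyOfFiniteType.isLocallyNoetherian σ
  obtain ⟨U, hqU, hU⟩ := exists_open_smooth σ x hH hHflat Ku hQ s hs K₀ g hg hExt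
  obtain ⟨-, -, W, -, -, n, hqW, -, hW, -⟩ := Synt29.SmoothDim.exists_chart (U.ι ≫ Q.hom) ⟨_, hqU⟩
  let j : (W : Scheme.{u}) ⟶ Q.left := W.ι ≫ U.ι
  haveI : SmoothOfRelativeDimension n (j ≫ Q.hom) := by
    rw [show j ≫ Q.hom = W.ι ≫ U.ι ≫ Q.hom from Category.assoc _ _ _]
    exact hW
  have hmem : g.left.base (IsLocalRing.closedPoint k) ∈ j.opensRange := ⟨⟨⟨_, hqU⟩, hqW⟩, rfl⟩
  have hrange : Set.range g.left.base ⊆ Set.range j.base := by
    rintro _ ⟨z, rfl⟩
    rw [show z = IsLocalRing.closedPoint k from Subsingleton.elim (α := PrimeSpectrum k) _ _]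
    exact hmem
  let g' : Spec (CommRingCat.of k) ⟶ W := IsOpenImmersion.lift j g.left hrange
  have hg' : g' ≫ j = g.left := IsOpenImmersion.lift_fac j g.left hrange
  let w₀ : Spec (CommRingCat.of k) ⟶ pullback (j ≫ Q.hom) s := pullback.lift g' (𝟙 _) (by
    rw [← Category.assoc, hg', Category.id_comp]
    exact Over.w g)
  haveI : SmoothOfRelativeDimension n (pullback.snd (j ≫ Q.hom) s) :=
    haveI := AlgebraicGeometry.smoothOfRelativeDimension_isStableUnderBaseChange n
    MorphismProperty.pullback_snd (P := @SmoothOfRelativeDimension n) _ _ inferInstance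
  have hn := finrank_cotangentSpace_of_smooth (pullback.snd (j ≫ Q.hom) s) n w₀ (pullback.lift_snd _ _ _)
  let j₀ : pullback (j ≫ Q.hom) s ⟶ (fib Q s).left :=
    pullback.map (j ≫ Q.hom) s Q.hom s j (𝟙 _) (𝟙 _) (Category.comp_id _) ((Category.comp_id _).trans (Category.id_comp _).symm)
  have hw₀ : w₀ ≫ j₀ = (fibPt g).left := by
    apply pullback.hom_ext
    · rw [Category.assoc, pullback.lift_fst, ← Category.assoc, pullback.lift_fst, hg']
      exact (pullback.lift_fst _ _ _).symm
    · rw [Category.assoc, pullback.lift_snd, Category.comp_id, pullback.lift_snd]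
      exact (pullback.lift_snd _ _ _).symm
  have hp : j₀.base (w₀.base (IsLocalRing.closedPoint k)) = p₀ (fib Q s) (fibPt g) :=
    congrArg (fun t : Spec (CommRingCat.of k) ⟶ (fib Q s).left => t.base (IsLocalRing.closedPoint k)) hw₀
  have hnh := finrank_cotangentSpace_fib Ku g K₀ hH hHflat hQ hg
  have heq : n = Module.finrank k (Rel.homSp x s H K₀.1) := by
    rw [← hn, ← hnh]
    let e : (fib Q s).left.presheaf.stalk (p₀ (fib Q s) (fibPt g)) ≅
        (pullback (j ≫ Q.hom) s).presheaf.stalk (w₀.base (IsLocalRing.closedPoint k)) :=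
      (fib Q s).left.presheaf.stalkCongr (.of_eq hp.symm) ≪≫ asIso (j₀.stalkMap _)
    haveI := hQ.1
    haveI : LocallyOfFiniteType Q.hom := lft_of_quotRepresented x hH Ku hQ
    haveI : IsLocallyNoetherian (fib Q s).left := LocallyOfFiniteType.isLocallyNoetherian (pullback.snd Q.hom s)
    exact finrank_cotangentSpace_of_ringEquiv e.commRingCatIsoToRingEquiv
  subst heq
  refine ⟨j.opensRange, hmem, ?_⟩
  rw [show j.opensRange.ι = j.isoOpensRange.inv ≫ j from (Scheme.Hom.isoOpensRange_inv_comp j).symm, Category.assoc]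
  exact (MorphismProperty.cancel_left_of_respectsIso (P := @SmoothOfRelativeDimension _) _ _).2 inferInstance

end Groth.Agent.QuotSm29
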